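import Cfsg.Agent.Mrg.Omega.EK3.FK.End
import Cfsg.Agent.Mrg.Omega.EK3.Q.Split
import Cfsg.Agent.Mrg.Omega.EK3.Q.Claim
import Cfsg.Agent.Mrg.Omega.EK3.Q.Def

section


/-!
# (4F-K), `k ≥ 3`, `q = 4`: from the second alternative of `Q.split`

* `FrK.cj_T` : `s ∈ S` normalises `T`, permutes the `z l` and normalises `D`;
* `FrK.hp_of` : an element of `D ∩ N(W i)` moving `Z i`, for one `i`, gives one for all `i`;
* `FrK.exists_hp` : `D ≰ N(Z i)` gives one, from (CL);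
* `FrK.kgroup` : `Y_j` is a `K`-group;
* **`false_of`** : (4F-K) is impossible, modulo (CL), `MLK`, `Ext`;
* **`ti_of`** : (TI) for `k ≥ 3`, `q ≥ 4`, modulo (CL), `MLK`, `Ext`.
-/

set_option autoImplicit false
set_option linter.unusedSectionVars false

namespace Cfsg.Agent.Omega.EK3.FK

open Subgroup Cfsg Cfsg.Agent.ZN.ChoiceBase
open Cfsg.Agent.ZN (jj zj bau zc zl o2)
open Cfsg.Agent.ZN.ChoiceSit (Syl exists_syl syl_conj)
open Cfsg.Agent.Omega.NO3S.EThree.Frame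
open Cfsg.Agent.Omega.Node.MultiOf
open Cfsg.Agent.Omega.ML.Final (MLK)
open Cfsg.Agent.MinSimple.MinParabolic (IsMinPar le_of_forall)
open Cfsg.Agent.Omega.TC.OfMul (BlkS)

universe u

variable {G : Type u} [Group G] {k : ℕ}

/-- **(CL)**: the members of `P(D, T)` normalise `Z i` or `W i`. -/
def CL [Finite G] (S : Sylow 2 G) (W Z : Fin k → Subgroup G) (z : Fin k → G) : Prop :=
  ∀ R : Subgroup G, IsMinPar (TT S W) R → (∀ r ∈ R, ∀ l, r * z l = z l * r) →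
    ∀ i, R ≤ normalizer (Z i : Set G) ∨ R ≤ normalizer (W i : Set G)

namespace FrK

variable [Finite G] {S : Sylow 2 G} {P K B ZJ : Subgroup G} {L W Z C : Fin k → Subgroup G} {z : Fin k → G}
  (h : FrK S P K B ZJ L W Z C z)
include h

/-- `s ∈ S` permutes the `W l` and the `Z l` -/
theorem S_perm {s : G} (hs : s ∈ (S : Subgroup G)) :
    ∃ σ : Equiv.Perm (Fin k), ∀ l, cj s (W l) = W (σ l) ∧ cj s (Z l) = Z (σ l) := by
  obtain ⟨σ, hσ⟩ := h.bg.perm_W (h.bg.S_norm_B hs)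
  exact ⟨σ, fun l => ⟨(hσ l).1, (hσ l).2⟩⟩

/-- `S` normalises `T` -/
theorem S_norm_T : (S : Subgroup G) ≤ normalizer (TT S W : Set G) := by
  refine le_norm_of fun s hs t ht => ?_
  refine mem_T (mul_mem (mul_mem hs (T_le_S ht)) (inv_mem hs)) fun l => ?_
  obtain ⟨σ, hσ⟩ := h.S_perm hs
  obtain ⟨m, rfl⟩ := σ.surjective l
  rw [← (hσ m).1, cj_cj]
  have e : s * t * s⁻¹ * s = s * t := by group
  rw [e, ← cj_cj, mem_normalizer_iff_cj.1 (T_W m ht)]

/-- `S` permutes the `z l` -/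
theorem S_z {s : G} (hs : s ∈ (S : Subgroup G)) {i j : Fin k} (e : cj s (Z i) = Z j) : s * z i * s⁻¹ = z j :=
  h.cj_z (h.bg.S_norm_B hs) (h.S_norm_T hs) e

/-- `S` normalises `D` -/
theorem S_D {s d : G} (hs : s ∈ (S : Subgroup G)) (hd : d ∈ DD z) : s * d * s⁻¹ ∈ DD z := by
  refine mem_DD.2 fun l => ?_
  obtain ⟨σ, hσ⟩ := h.S_perm hs
  obtain ⟨m, rfl⟩ := σ.surjective l
  rw [← h.S_z hs (hσ m).2]
  have e := mem_DD.1 hd m
  calc s * d * s⁻¹ * (s * z m * s⁻¹) = s * (d * z m) * s⁻¹ := by group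
    _ = s * (z m * d) * s⁻¹ := by rw [e]
    _ = s * z m * s⁻¹ * (s * d * s⁻¹) := by group

/-- one `i` gives all `i` -/
theorem hp_of {i : Fin k} (hp : ∃ f ∈ DD z, f ∈ normalizer (W i : Set G) ∧ f ∉ normalizer (Z i : Set G))
    (j : Fin k) : ∃ f ∈ DD z, f ∈ normalizer (W j : Set G) ∧ f ∉ normalizer (Z j : Set G) := by
  obtain ⟨f, hfD, hfW, hfZ⟩ := hp
  obtain ⟨s, hs, e⟩ := h.bg.trans i j
  have e2 : cj s (Z i) = Z j := (h.bg.cj_Z_iff hs).2 e
  refine ⟨s * f * s⁻¹, h.S_D hs hfD, ?_, fun hc => hfZ ?_⟩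
  · rw [← e, ← cj_normalizer]
    exact ⟨f, hfW, rfl⟩
  · rw [← e2, ← cj_normalizer, mem_cj] at hc
    have e3 : s⁻¹ * (s * f * s⁻¹) * s = f := by group
    rwa [e3] at hc

/-- `D ≰ N(Z i)`: some element of `D ∩ N(W i)` moves `Z i` -/
theorem exists_hp (cl : CL S W Z z) {i : Fin k} (hi : ¬ DD z ≤ normalizer (Z i : Set G)) :
    ∃ f ∈ DD z, f ∈ normalizer (W i : Set G) ∧ f ∉ normalizer (Z i : Set G) := by
  by_contra hcon
  push Not at hcon
  apply hi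
  obtain ⟨j, -⟩ := h.exists_idx
  refine le_of_forall h.T_D (fun n hn => (h.norm_T (j := j) (DD_le_CT hn.1) hn.2).2 i) fun R hR hRD => ?_
  rcases cl R hR (fun r hr => mem_DD.1 (hRD hr)) i with h1 | h1
  · exact h1
  · exact fun r hr => hcon r (hRD hr) (h1 hr)

/-- `Y_j` is a `K`-group -/
theorem kgroup (j : Fin k) : IsKGroup (YY z j) := by
  have hG := h.bg.hyp.ctx
  refine hG.kproper _ fun htop => ?_
  have := hG.simple
  obtain ⟨l, hl⟩ := h.exists_ne j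
  have hz : z l ∈ center G := by
    rw [mem_center_iff]
    intro g
    have hg : g ∈ YY z j := by rw [htop]; exact mem_top g
    exact mem_YY.1 hg l hl
  rcases (inferInstance : (center G).Normal).eq_bot_or_eq_top with h1 | h1
  · rw [h1, mem_bot] at hz
    exact h.z1 l hz
  · apply hG.nonComm
    refine ⟨⟨fun a b => ?_⟩⟩
    have hb : b ∈ center G := by rw [h1]; exact mem_top b
    exact mem_center_iff.1 hb a

/-- (4F-K) is impossible: `D` normalises all `Z i`. -/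
theorem D_le (h3 : 3 ≤ k) (hML : MLK.{u, u}) (hX : ML.Ex.Two.Ext.{u, u}) (hE : NLoc (KZ B ZJ)) (cl : CL S W Z z)
    (i : Fin k) : DD z ≤ normalizer (Z i : Set G) := by
  by_contra hi
  exact h.false_of h3 hML hX h.kgroup hE (h.hp_of (h.exists_hp cl hi))

end FrK

variable [Finite G] {S : Sylow 2 G} {P K B ZJ : Subgroup G} {L W Z C : Fin k → Subgroup G}

/-- the frame from the second alternative of `Q.split` -/
theorem frK_of (h : Mul S P K B ZJ L W Z C 4) (hk : 2 ≤ k)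
    (uni : ∀ L' V' : Subgroup G, FBl B L' V' → ∃ i, V' = W i ∧ ∀ z ∈ ZJ, z ∈ C i → ∀ l ∈ L', l * z = z * l)
    (blk : BlkS K B ((S : Subgroup G) ⊓ ⨅ l, normalizer (W l : Set G))) {z : Fin k → G}
    (hz : ∀ i, z i ∈ Z i ∧ z i ≠ 1 ∧ ∀ w ∈ Z i,
      (∀ t ∈ (S : Subgroup G) ⊓ ⨅ l, normalizer (W l : Set G), t * w = w * t) ↔ (w = 1 ∨ w = z i)) :
    FrK S P K B ZJ L W Z C z where
  mul := h
  two := hk
  zZ i := (hz i).1
  z1 i := (hz i).2.1
  Tz i := ((hz i).2.2 (z i) (hz i).1).2 (Or.inr rfl)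
  fx i w hw := ((hz i).2.2 w hw).1
  uni := uni
  blk := blk

/-- **(4F-K) is impossible**, modulo (CL), `MLK`, `Ext`; the hypotheses are those of `Q.split` and its second
alternative. -/
theorem false_of (hML : MLK.{u, u}) (hX : ML.Ex.Two.Ext.{u, u}) (h : Mul S P K B ZJ L W Z C 4) (hk : 3 ≤ k)
    (uni : ∀ L' V' : Subgroup G, FBl B L' V' → ∃ i, V' = W i ∧ ∀ z ∈ ZJ, z ∈ C i → ∀ l ∈ L', l * z = z * l)
    (blk : BlkS K B ((S : Subgroup G) ⊓ ⨅ l, normalizer (W l : Set G))) {z : Fin k → G}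
    (hz : ∀ i, z i ∈ Z i ∧ z i ≠ 1 ∧ ∀ w ∈ Z i,
      (∀ t ∈ (S : Subgroup G) ⊓ ⨅ l, normalizer (W l : Set G), t * w = w * t) ↔ (w = 1 ∨ w = z i))
    (hi : ∃ i, ¬ (⨅ l, centralizer ({z l} : Set G)) ≤ normalizer (Z i : Set G)) (hE : NLoc (KZ B ZJ))
    (cl : CL S W Z z) : False := by
  obtain ⟨i, hi⟩ := hi
  refine hi (le_trans (fun x hx => ?_) ((frK_of h (by omega) uni blk hz).D_le hk hML hX hE cl i))
  refine mem_DD.2 fun l => ?_
  exact mem_centralizer_singleton_iff.1 (mem_iInf.1 hx l)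

/-- **(TI) for `k ≥ 3`, `q ≥ 4`, every stage**: 514's `Q.split` without its second alternative. -/
theorem ti_of {q : ℕ} (hML : MLK.{u, u}) (hX : ML.Ex.Two.Ext.{u, u}) (h : Mul S P K B ZJ L W Z C q) (hk : 3 ≤ k)
    (hq : 4 ≤ q) (blk : ∀ T : Subgroup G, B ≤ T → BlkS K B T)
    (uni : ∀ L' V' : Subgroup G, FBl B L' V' → ∃ i, V' = W i ∧ ∀ z ∈ ZJ, z ∈ C i → ∀ l ∈ L', l * z = z * l)
    (hE : NLoc (KZ B ZJ))
    (cl : q = 4 → ∀ z : Fin k → G, (∀ i, z i ∈ Z i) → (∀ i, z i ≠ 1) →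
      (∀ t ∈ TT S W, ∀ i, t * z i = z i * t) → CL S W Z z) :
    ∀ i j, i ≠ j → ∀ z ∈ Z i, z ≠ 1 → centralizer ({z} : Set G) ⊓ Q.CQ Z i j ≤ normalizer (Z i : Set G) := by
  rcases Q.split h (by omega) hq blk uni with h1 | ⟨rfl, z, hz, hi⟩
  · exact h1
  · exact (false_of hML hX h hk uni (blk _ (Q.B_le_TStar h.bg)) hz hi hE
      (cl rfl z (fun i => (hz i).1) (fun i => (hz i).2.1)
        fun t ht i => ((hz i).2.2 (z i) (hz i).1).2 (Or.inr rfl) t ht)).elim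

end Cfsg.Agent.Omega.EK3.FK

end

section


/-!
# (E), `k ≥ 3`, `q ≥ 4`, every stage: (TI), modulo `MLK`, `Ext`

* `false_mul` : the second alternative of `Q.split` ((4F-K)) is impossible;
* **`ti_mul`** : (TI) over `Mul`, `3 ≤ k`, `4 ≤ q`, `NLoc (KZ B ZJ)`;
* **`frQ_mul`** : the frame `FrQ`.
-/

set_option autoImplicit false
set_option linter.unusedSectionVars false

namespace Cfsg.Agent.Omega.EK3.FK

open Subgroup Cfsg Cfsg.Agent.ZN.ChoiceBase
open Cfsg.Agent.Omega.Node.MultiOf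
open Cfsg.Agent.Omega.ML.Final (MLK)

universe u

variable {G : Type u} [Group G] [Finite G] {S : Sylow 2 G} {P K B ZJ : Subgroup G} {k : ℕ}
  {L W Z C : Fin k → Subgroup G}

/-- **(4F-K) is impossible**, every stage. -/
theorem false_mul (hML : MLK.{u, u}) (hX : ML.Ex.Two.Ext.{u, u}) (h : Mul S P K B ZJ L W Z C 4) (hk : 3 ≤ k)
    (hE : NLoc (KZ B ZJ)) {z : Fin k → G} (hz : Q.HZ S W Z z)
    (hi : ∃ i, ¬ (⨅ l, centralizer ({z l} : Set G)) ≤ normalizer (Z i : Set G)) : False := by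
  have uni := Q.OfMul.uni_mul h (by omega) (by omega)
  have blk := fun T (hT : B ≤ T) => Q.OfMul.blk_mul h (by omega) (by omega) (T := T) hT
  have hF : FrK S P K B ZJ L W Z C z := frK_of h (by omega) uni (blk _ (Q.B_le_TStar h.bg)) hz
  have e : (⨅ l, centralizer ({z l} : Set G)) ≤ DD z := fun x hx => mem_DD.2 fun l =>
    mem_centralizer_singleton_iff.1 (mem_iInf.1 hx l)
  refine hF.false_of hk hML hX hF.kgroup hE fun i => ?_
  obtain ⟨f, hf, h1, h2⟩ := Q.hp h (by omega) blk uni hz hi i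
  exact ⟨f, e hf, h1, h2⟩

/-- **(TI), `k ≥ 3`, `q ≥ 4`**, every stage. -/
theorem ti_mul (hML : MLK.{u, u}) (hX : ML.Ex.Two.Ext.{u, u}) {q : ℕ} (h : Mul S P K B ZJ L W Z C q) (hk : 3 ≤ k)
    (hq : 4 ≤ q) (hE : NLoc (KZ B ZJ)) :
    ∀ i j, i ≠ j → ∀ z ∈ Z i, z ≠ 1 → centralizer ({z} : Set G) ⊓ Q.CQ Z i j ≤ normalizer (Z i : Set G) := by
  rcases Q.split h (by omega) hq (fun T hT => Q.OfMul.blk_mul h (by omega) (by omega) (T := T) hT)
    (Q.OfMul.uni_mul h (by omega) (by omega)) with h1 | ⟨rfl, z, hz, hi⟩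
  · exact h1
  · exact (false_mul hML hX h hk hE hz hi).elim

/-- **The frame `FrQ`**, every stage. -/
theorem frQ_mul (hML : MLK.{u, u}) (hX : ML.Ex.Two.Ext.{u, u}) {q : ℕ} (h : Mul S P K B ZJ L W Z C q) (hk : 3 ≤ k)
    (hq : 4 ≤ q) (hE : NLoc (KZ B ZJ)) : Q.FrQ S P K B ZJ L W Z C q where
  mul := h
  three := hk
  four := hq
  ti := ti_mul hML hX h hk hq hE
  uni := Q.OfMul.uni_mul h (by omega) (by omega)
  blk j := Q.OfMul.blk_mul h (by omega) (by omega) (le_inf h.bg.BS fun b hb => Q.mem_YQ.2 fun l _ w hw =>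
    (h.bg.fr.blk l).cZ b hb w hw)

end Cfsg.Agent.Omega.EK3.FK

end

section


/-!
# Row (8) of the ledger #22041: `EOf K (3 ≤ k ∧ 4 ≤ q)`, all stages (assembly; bb #22703, #22920, #23990)

* `MidIn` : the frame `FrQ` is impossible (socket);
* `kgroup_of`, `kgroup_YQ` : `C_G(Z_l : l ≠ j)` is a K-group;
* `eOf_of` : **row (8)**.
-/

set_option autoImplicit false
set_option linter.unusedSectionVars false

namespace Cfsg.Agent.Omega.EK3.Q.Tree

open Subgroup Cfsg Cfsg.Agent.ZN.ChoiceBase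
open Cfsg.Agent.Omega.Frame (Cls)
open Cfsg.Agent.Omega.NO3S.EThree.Frame (Bg)
open Cfsg.Agent.Omega.Node.MultiOf
open Cfsg.Agent.Omega.ML.Final (MLK)

universe u

/-- **The frame `FrQ` is impossible.** -/
def MidIn : Prop :=
  ∀ (G : Type u) [Group G] [Finite G] (S : Sylow 2 G) (P K B ZJ : Subgroup G) (k : ℕ)
    (L W Z C : Fin k → Subgroup G) (q : ℕ), FrQ S P K B ZJ L W Z C q → (∀ j, IsKGroup (YQ Z j)) →
      NLoc (KZ B ZJ) → False

section kgroups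

variable {G : Type u} [Group G] [Finite G] {S : Sylow 2 G} {P K B ZJ : Subgroup G} {k : ℕ}
  {L W Z C : Fin k → Subgroup G} {q : ℕ}

/-- a subgroup of the centraliser of `x ≠ 1` is a K-group -/
theorem kgroup_of (h : Bg S P B ZJ L W Z C q) {x : G} (hx : x ≠ 1) {X : Subgroup G}
    (hX : ∀ g ∈ X, g * x = x * g) : IsKGroup X := by
  have hG := h.hyp.ctx
  refine hG.kproper _ fun e => ?_
  have hs := hG.simple
  have h1 : x ∈ center G := by
    rw [mem_center_iff]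
    intro g
    exact hX g (by rw [e]; exact mem_top g)
  rcases hs.eq_bot_or_eq_top_of_normal (center G) inferInstance with h2 | h2
  · rw [h2, mem_bot] at h1
    exact hx h1
  · apply hG.nonComm
    refine ⟨⟨fun a b => ?_⟩⟩
    have : a ∈ center G := by rw [h2]; exact mem_top a
    exact (mem_center_iff.mp this b).symm

theorem kgroup_YQ (h : Bg S P B ZJ L W Z C q) (j : Fin k) : IsKGroup (YQ Z j) := by
  obtain ⟨l, hl⟩ := h.two j
  obtain ⟨x, hx⟩ := Subgroup.ne_bot_iff_exists_ne_one.1 (h.Z_ne l)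
  exact kgroup_of h (x := x) (fun e => hx (Subtype.ext e)) fun g hg => mem_YQ.1 hg l hl x x.2

end kgroups

/-- **Row (8)** from `MidIn`. -/
theorem eOf_of (hML : MLK.{u, u}) (hX : ML.Ex.Two.Ext.{u, u}) (hM : MidIn.{u}) (K : Cls.{u}) :
    EOf K fun k q => 3 ≤ k ∧ 4 ≤ q := by
  rintro G _ _ hG S P K' B ZJ k L W Z C q - ⟨h3, h4⟩ h hE
  exact (hM G S P K' B ZJ k L W Z C q (FK.frQ_mul hML hX h h3 h4 hE) (kgroup_YQ h.bg) hE).elim

end Cfsg.Agent.Omega.EK3.Q.Tree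

end
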