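import Cfsg.Agent.Mrg.Omega.NO3S.EMany.LowExt
import Cfsg.Agent.Mrg.Omega.KL.Mor


/-!
# The end at group level, two fixed vectors of order 2

`GInE T C N N₀ Z Sy F x p` : `C` acts on `M := N / Z` (`N` elementary abelian, `Z ≤ N` centralised by `C`),
`N₀ = ⟨x^C⟩ ≤ N`, `T` a Sylow 2-subgroup of `C`, `C_C(x)` is the stabiliser of `x̄`, `Sy` the stabiliser of `p̄`; every
`T`-minimal `R ≤ C` centralises `x` or fixes `p̄`; `F ≤ O₂(C_C(x)) ∩ O₂(Sy)` elementary abelian, moves `N₀`,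
`|N : C_N(F)| ≤ |F : C_F(N₀)|`.

* `GInE.exists_act`, **`GInE.false`** : contradiction.
-/

set_option autoImplicit false

namespace Cfsg.Agent.Omega.EK3.FK

open Subgroup Cfsg Cfsg.Agent.ZN
open Cfsg.Agent.ClassTwoFusion.Quad Cfsg.Agent.Omega.ML.MinFrame Cfsg.Agent.Omega.ML.Final
open Cfsg.Agent.Omega.KL.PlugG (comm_of_sq minPar_map sub_o2)
open Cfsg.Agent.MinSimple.MinParabolic (IsMinPar)
open Cfsg.Agent.MinSimple.VModule (o2_isPGroup o2_le le_o2 le_normalizer_o2 o2_le_of_sylow)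

universe u

variable {G : Type u} [Group G]

/-- **The input at group level** -/
structure GInE (T C N N₀ Z Sy F : Subgroup G) (x p : G) : Prop where
  TC : T ≤ C
  two : IsPGroup 2 T
  syl : ¬ 2 ∣ T.relIndex C
  sq : ∀ n ∈ N, n * n = 1
  CN : C ≤ normalizer (N : Set G)
  ZN : Z ≤ N
  CZ : ∀ c ∈ C, ∀ z ∈ Z, c * z = z * c
  xN₀ : x ∈ N₀
  CN₀ : C ≤ normalizer (N₀ : Set G)
  N₀N : N₀ ≤ N
  min : ∀ U : Subgroup G, x ∈ U → C ≤ normalizer (U : Set G) → N₀ ≤ U
  pN : p ∈ N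
  stx : ∀ c ∈ C, c * x * c⁻¹ * x⁻¹ ∈ Z → c * x = x * c
  sty : ∀ c ∈ C, (c ∈ Sy ↔ c * p * c⁻¹ * p⁻¹ ∈ Z)
  nx : ∀ g ∈ C, g ∈ normalizer (T : Set G) → g * x = x * g
  ty : T ≤ Sy
  uni : ∀ R : Subgroup G, IsMinPar T R → R ≤ C → (∀ r ∈ R, r * x = x * r) ∨ R ≤ Sy
  el : ∀ a ∈ F, a * a = 1
  Ax : F ≤ o2 (C ⊓ centralizer ({x} : Set G))
  Ay : F ≤ o2 Sy
  mv : ¬ F ≤ centralizer (N₀ : Set G)
  ex : (centralizer (F : Set G)).relIndex N ≤ (centralizer (N₀ : Set G)).relIndex F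
  KC : IsKGroup C

namespace GInE

variable [Finite G] {T C N N₀ Z Sy F : Subgroup G} {x p : G} (h : GInE T C N N₀ Z Sy F x p)
include h

theorem exists_act : ∃ (M : Type u) (_ : Group M) (_ : Finite M) (_ : MulDistribMulAction C M) (x' y' : M),
    ActE (T.subgroupOf C) (F.subgroupOf C) x' y' := by
  have hCZc : ∀ c ∈ C, ∀ z ∈ Z, c * z * c⁻¹ = z := by
    intro c hc z hz
    rw [h.CZ c hc z hz, mul_inv_cancel_right]
  have hCZ : C ≤ normalizer (Z : Set G) := by
    intro c hc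
    rw [mem_normalizer_iff]
    intro z
    refine ⟨fun hz => by rw [hCZc c hc z hz]; exact hz, fun hz => ?_⟩
    have h1 := hCZc c⁻¹ (inv_mem hc) _ hz
    have e : c⁻¹ * (c * z * c⁻¹) * c⁻¹⁻¹ = z := by group
    rw [e] at h1
    rw [h1]
    exact hz
  have hnor : (Z.subgroupOf N).Normal := by
    refine normal_subgroupOf_of_le_normalizer fun n hn => ?_
    rw [mem_normalizer_iff]
    intro z
    have hc : ∀ a ∈ N, ∀ b ∈ N, a * b = b * a := fun a ha b hb => comm_of_sq h.sq ha hb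
    constructor
    · intro hz
      rwa [hc n hn z (h.ZN hz), mul_inv_cancel_right]
    · intro hz
      have h1 := hc n hn _ (h.ZN hz)
      have e : n * z * n⁻¹ = z := by
        have e1 : n * (n * z * n⁻¹) = n * z := by rw [h1]; group
        exact mul_left_cancel e1
      rwa [e] at hz
  let _ := ML.Final.conjAct h.CN hCZ
  let mk : N →* N ⧸ Z.subgroupOf N := QuotientGroup.mk' (Z.subgroupOf N)
  have hmk : Function.Surjective mk := QuotientGroup.mk'_surjective _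
  have hmem : ∀ (g : C) (n : N), (g : G) * n * (g : G)⁻¹ ∈ N := fun g n =>
    (mem_normalizer_iff.1 (h.CN g.2) n).1 n.2
  have hsm : ∀ (g : C) (n : N), g • mk n = mk ⟨(g : G) * n * (g : G)⁻¹, hmem g n⟩ := fun _ _ => rfl
  have hone : ∀ a b : N, mk a = mk b ↔ (a : G) * (b : G)⁻¹ ∈ Z := by
    intro a b
    rw [← mul_inv_eq_one, ← map_inv, ← map_mul, ← MonoidHom.mem_ker, QuotientGroup.ker_mk']
    exact Iff.rfl
  have hfix : ∀ (g : C) (n : N), g • mk n = mk n ↔ (g : G) * n * (g : G)⁻¹ * (n : G)⁻¹ ∈ Z := by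
    intro g n
    rw [hsm, hone]
  have hxN : x ∈ N := h.N₀N h.xN₀
  set x' : N ⧸ Z.subgroupOf N := mk ⟨x, hxN⟩ with hx
  set y' : N ⧸ Z.subgroupOf N := mk ⟨p, h.pN⟩ with hy
  have hcom : ∀ {a b : G}, a * b = b * a → a * b * a⁻¹ * b⁻¹ ∈ Z := by
    intro a b e
    rw [e, mul_inv_cancel_right, mul_inv_cancel]
    exact one_mem _
  have hsub : ∀ {X : Subgroup G}, T ≤ X → X ≤ C → ¬ 2 ∣ T.relIndex X := fun {X} h1 h2 h3 =>
    h.syl (h3.trans (Dvd.intro _ (relIndex_mul_relIndex T X C h1 h2)))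
  have hTx : T ≤ C ⊓ centralizer ({x} : Set G) := le_inf h.TC fun t ht =>
    mem_centralizer_singleton_iff.2 (h.nx t (h.TC ht) (Subgroup.le_normalizer ht))
  have hFT : F ≤ T := h.Ax.trans (o2_le_of_sylow h.two (hsub hTx inf_le_left))
  have hFC : F ≤ C := hFT.trans h.TC
  -- the kernel on `⟨x̄^C⟩`
  have hker : ∀ c : C, c ∈ fxr C (orb (⊤ : Subgroup C) x') ↔ (c : G) ∈ centralizer (N₀ : Set G) := by
    intro c
    rw [mem_fxr_orb]
    have hgx : ∀ g : C, g • x' = mk ⟨(g : G) * x * (g : G)⁻¹, hmem g ⟨x, hxN⟩⟩ := fun g => hsm g ⟨x, hxN⟩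
    constructor
    · intro hc
      set K : Set G := {k | k ∈ C ∧ ∀ g ∈ C, k * (g * x * g⁻¹) * k⁻¹ * (g * x * g⁻¹)⁻¹ ∈ Z} with hK
      have hKC : ∀ g ∈ C, ∀ k ∈ K, g⁻¹ * k * g ∈ K := by
        rintro g hg k ⟨hk, hk2⟩
        refine ⟨mul_mem (mul_mem (inv_mem hg) hk) hg, fun a ha => ?_⟩
        have h1 := hk2 _ (mul_mem hg ha)
        have h2 := (mem_normalizer_iff.1 (hCZ (inv_mem hg)) _).1 h1
        have e : g⁻¹ * (k * (g * a * x * (g * a)⁻¹) * k⁻¹ * (g * a * x * (g * a)⁻¹)⁻¹) * g⁻¹⁻¹ =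
            g⁻¹ * k * g * (a * x * a⁻¹) * (g⁻¹ * k * g)⁻¹ * (a * x * a⁻¹)⁻¹ := by group
        rwa [e] at h2
      have h1 : N₀ ≤ centralizer K := by
        refine h.min _ ?_ ?_
        · rw [mem_centralizer_iff]
          rintro k ⟨hk, hk2⟩
          refine h.stx k hk ?_
          have := hk2 1 (one_mem _)
          simpa using this
        · intro g hg
          have key : ∀ g ∈ C, ∀ u ∈ centralizer K, g * u * g⁻¹ ∈ centralizer K := by
            intro g hg u hu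
            rw [mem_centralizer_iff] at hu ⊢
            intro k hk
            have h2 := hu _ (hKC g hg k hk)
            calc k * (g * u * g⁻¹) = g * ((g⁻¹ * k * g) * u) * g⁻¹ := by group
              _ = g * (u * (g⁻¹ * k * g)) * g⁻¹ := by rw [h2]
              _ = g * u * g⁻¹ * k := by group
          rw [mem_normalizer_iff]
          intro u
          refine ⟨key g hg u, fun hu => ?_⟩
          have h2 := key g⁻¹ (inv_mem hg) _ hu
          have e : g⁻¹ * (g * u * g⁻¹) * g⁻¹⁻¹ = u := by group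
          rwa [e] at h2
      rw [mem_centralizer_iff]
      intro n hn
      refine (mem_centralizer_iff.1 (h1 hn) c ⟨c.2, fun g hg => ?_⟩).symm
      have h2 := hc ⟨g, hg⟩ (mem_top _)
      rw [hgx] at h2
      exact (hfix c _).1 h2
    · intro hc g _
      rw [hgx, hfix]
      refine hcom (mem_centralizer_iff.1 hc _ ?_).symm
      exact (mem_normalizer_iff.1 (h.CN₀ g.2) x).1 h.xN₀
  -- the stabilisers
  have hsx : ∀ c : C, c ∈ MulAction.stabilizer C x' ↔ (c : G) ∈ C ⊓ centralizer ({x} : Set G) := by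
    intro c
    rw [MulAction.mem_stabilizer_iff, hfix, mem_inf, mem_centralizer_singleton_iff]
    exact ⟨fun h1 => ⟨c.2, h.stx c c.2 h1⟩, fun h1 => hcom h1.2⟩
  have hsy : ∀ c : C, c ∈ MulAction.stabilizer C y' ↔ (c : G) ∈ Sy := by
    intro c
    rw [MulAction.mem_stabilizer_iff, hfix]
    exact (h.sty c c.2).symm
  -- `N_C(T)`
  have hnT : ∀ g ∈ normalizer (T.subgroupOf C : Set C), (g : G) ∈ C ⊓ normalizer (T : Set G) := by
    intro g hg
    refine mem_inf.2 ⟨g.2, ?_⟩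
    rw [mem_normalizer_iff]
    intro t
    constructor
    · intro ht
      exact (mem_normalizer_iff.1 hg ⟨t, h.TC ht⟩).1 ht
    · intro ht
      have h1 : (g : G)⁻¹ * ((g : G) * t * (g : G)⁻¹) * (g : G)⁻¹⁻¹ ∈ T :=
        (mem_normalizer_iff.1 (inv_mem hg) ⟨(g : G) * t * (g : G)⁻¹, h.TC ht⟩).1 ht
      have e : (g : G)⁻¹ * ((g : G) * t * (g : G)⁻¹) * (g : G)⁻¹⁻¹ = t := by group
      rwa [e] at h1
  -- the index of the fixed space
  have hcvle : (centralizer (F : Set G)).subgroupOf N ≤ (cv (N ⧸ Z.subgroupOf N) (F.subgroupOf C : Set C)).comap mk := by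
    intro n hn a ha
    refine (hfix a n).2 ?_
    exact hcom (mem_centralizer_iff.1 (mem_subgroupOf.1 hn) a (mem_subgroupOf.1 ha))
  have hfxr : fxr C (orb (⊤ : Subgroup C) x') = (centralizer (N₀ : Set G)).subgroupOf C := by
    ext c
    rw [mem_subgroupOf, ← hker]
  have hle : (cv (N ⧸ Z.subgroupOf N) (F.subgroupOf C : Set C)).index ≤
      (fxr C (orb (⊤ : Subgroup C) x')).relIndex (F.subgroupOf C) := by
    rw [hfxr, relIndex_subgroupOf hFC, ← index_comap_of_surjective _ hmk]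
    exact (index_antitone hcvle).trans h.ex
  refine ⟨N ⧸ Z.subgroupOf N, inferInstance, inferInstance, inferInstance, x', y', ?_⟩
  refine
    { sq := ?_
      two := h.two.comap_of_injective C.subtype C.subtype_injective
      syl := h.syl
      el := fun a ha => Subtype.ext (h.el a (mem_subgroupOf.1 ha))
      nx := ?_
      ty := ?_
      Ax := sub_o2 hsx h.Ax
      Ay := sub_o2 hsy h.Ay
      uni := ?_
      mv := ?_
      ex := hle
      KX := h.KC }
  · intro m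
    obtain ⟨n, rfl⟩ := hmk m
    rw [← map_mul, ← map_one mk, hone]
    have h1 : (n : G) * n = 1 := h.sq n n.2
    simp [h1]
  · intro g hg
    have h1 := hnT g hg
    exact MulAction.mem_stabilizer_iff.1 ((hsx g).2 (mem_inf.2 ⟨h1.1, mem_centralizer_singleton_iff.2 (h.nx g h1.1 h1.2)⟩))
  · intro t ht
    exact MulAction.mem_stabilizer_iff.1 ((hsy t).2 (h.ty (mem_subgroupOf.1 ht)))
  · intro P hP
    rcases h.uni _ (minPar_map h.TC hP) (map_subtype_le P) with h1 | h1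
    · left
      intro q hq
      exact MulAction.mem_stabilizer_iff.1 ((hsx q).2 (mem_inf.2 ⟨q.2,
        mem_centralizer_singleton_iff.2 (h1 q (mem_map_of_mem C.subtype hq))⟩))
    · right
      intro q hq
      exact MulAction.mem_stabilizer_iff.1 ((hsy q).2 (h1 (mem_map_of_mem C.subtype hq)))
  · intro hc
    apply h.mv
    intro a ha
    exact (hker ⟨a, hFC ha⟩).1 (hc (mem_subgroupOf.2 ha))

/-- **contradiction** -/
theorem false (hM : MLK.{u, u}) (hE : ML.Ex.Two.Ext.{u, u}) : False := by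
  obtain ⟨M, _, _, _, x', y', hA⟩ := h.exists_act
  exact hA.false hM hE

end GInE

end Cfsg.Agent.Omega.EK3.FK
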