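import Cfsg.Agent.Mrg.Omega.NO3S.EThree.Frame
import Cfsg.Agent.Mrg.Omega.OM.Lev.Main
import Cfsg.Agent.Mrg.Omega.EK3.Base
import Cfsg.Agent.Mrg.Omega.EK3.Rank
import Cfsg.Agent.Mrg.Omega.ML.MinIrr

section


/-!
# (4F-K) (bb #22920, #23808): the frame

`q = 4`, `k ≥ 2`, `T = S ∩ ⋂ N(W_l)`, `C_{Z_l}(T) = ⟨z_l⟩` of order 2, `Y_j = C_G(z_l : l ≠ j)`, `D = C_G(z_l : l)`.

* `FrK` : the frame;
* `FrK.fx_YY` : `n ∈ N_G(B) ∩ Y_j` normalises all `W l`, `Z l`;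
* `FrK.syl_of`, `FrK.syl_D` : `T` is Sylow in every `X` with `T ≤ X ≤ Y_j`;
* `FrK.norm_T` : `N_{Y_j}(T) ≤ D ∩ ⋂ N(Z_l)`;
* `FrK.norm_ZJ` : `N_{Y_j}(ZJ)` normalises all `Z l`;
* `FrK.par` : members of `P(Y_j, T)` moving `z_j`.
-/

set_option autoImplicit false
set_option linter.unusedSectionVars false

namespace Cfsg.Agent.Omega.EK3.FK

open Subgroup Cfsg Cfsg.Agent.ZN.ChoiceBase
open Cfsg.Agent.ZN (jj zj bau zc zl o2)
open Cfsg.Agent.ZN.ChoiceSit (Syl exists_syl syl_conj)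
open Cfsg.Agent.Omega.NO3S.EThree.Frame
open Cfsg.Agent.Omega.Node.MultiOf
open Cfsg.Agent.Omega.OM.LevD (LB)
open Cfsg.Agent.MinSimple.MinParabolic (IsMinPar)

universe u

variable {G : Type u} [Group G] {k : ℕ}

/-- `T = S ∩ ⋂ N(W_l)` -/
def TT [Finite G] (S : Sylow 2 G) (W : Fin k → Subgroup G) : Subgroup G :=
  (S : Subgroup G) ⊓ ⨅ l, normalizer (W l : Set G)

/-- `D = C_G(z_l : l)` -/
abbrev DD (z : Fin k → G) : Subgroup G := CT z Set.univ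

/-- `Y_j = C_G(z_l : l ≠ j)` -/
abbrev YY (z : Fin k → G) (j : Fin k) : Subgroup G := CT z {j}ᶜ

/-- `C_ij = C_G(z_l : l ≠ i, j)` -/
abbrev CC (z : Fin k → G) (i j : Fin k) : Subgroup G := CT z ({i, j} : Set (Fin k))ᶜ

theorem mem_DD {z : Fin k → G} {x : G} : x ∈ DD z ↔ ∀ l, x * z l = z l * x :=
  mem_CT.trans ⟨fun h l => h l (Set.mem_univ l), fun h l _ => h l⟩

theorem mem_YY {z : Fin k → G} {j : Fin k} {x : G} : x ∈ YY z j ↔ ∀ l, l ≠ j → x * z l = z l * x :=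
  mem_CT.trans ⟨fun h l hl => h l hl, fun h l hl => h l hl⟩

theorem DD_le_CT {z : Fin k → G} {s : Set (Fin k)} : DD z ≤ CT z s := CT_mono (Set.subset_univ _)

theorem mem_DD_of {z : Fin k → G} {j : Fin k} {x : G} (h : x ∈ YY z j) (hj : x * z j = z j * x) : x ∈ DD z :=
  mem_DD.2 fun l => by
    by_cases e : l = j
    · rw [e]; exact hj
    · exact mem_YY.1 h l e

/-- `X ≤ N(W)` -/
theorem le_norm_of {X W : Subgroup G} (h : ∀ g ∈ X, ∀ w ∈ W, g * w * g⁻¹ ∈ W) : X ≤ normalizer (W : Set G) := by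
  intro g hg
  rw [mem_normalizer_iff]
  intro w
  refine ⟨h g hg w, fun hw => ?_⟩
  have h1 := h g⁻¹ (inv_mem hg) _ hw
  have e : g⁻¹ * (g * w * g⁻¹) * g⁻¹⁻¹ = w := by group
  rwa [e] at h1

/-- **The frame.** -/
structure FrK [Finite G] (S : Sylow 2 G) (P K B ZJ : Subgroup G) (L W Z C : Fin k → Subgroup G) (z : Fin k → G) :
    Prop where
  mul : Mul S P K B ZJ L W Z C 4
  two : 2 ≤ k
  zZ : ∀ i, z i ∈ Z i
  z1 : ∀ i, z i ≠ 1
  Tz : ∀ i, ∀ t ∈ TT S W, t * z i = z i * t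
  /-- `C_{Z_i}(T) = ⟨z_i⟩` -/
  fx : ∀ i, ∀ w ∈ Z i, (∀ t ∈ TT S W, t * w = w * t) → w = 1 ∨ w = z i
  uni : ∀ L' V' : Subgroup G, FBl B L' V' → ∃ i, V' = W i ∧ ∀ z ∈ ZJ, z ∈ C i → ∀ l ∈ L', l * z = z * l
  blk : TC.OfMul.BlkS K B (TT S W)

namespace FrK

variable [Finite G] {S : Sylow 2 G} {P K B ZJ : Subgroup G} {L W Z C : Fin k → Subgroup G} {z : Fin k → G}
  (h : FrK S P K B ZJ L W Z C z)
include h

theorem bg : Bg S P B ZJ L W Z C 4 := h.mul.bg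

theorem lb : LB S K B ZJ := h.mul.lb

omit h in
theorem T_le_S : TT S W ≤ (S : Subgroup G) := inf_le_left

omit h in
theorem T_two : IsPGroup 2 (TT S W) := S.isPGroup'.to_le T_le_S

omit h in
theorem T_W (l : Fin k) : TT S W ≤ normalizer (W l : Set G) := inf_le_right.trans (iInf_le _ l)

omit h in
theorem mem_T {s : G} (hs : s ∈ (S : Subgroup G)) (hW : ∀ l, cj s (W l) = W l) : s ∈ TT S W :=
  mem_inf.2 ⟨hs, mem_iInf.2 fun l => mem_normalizer_iff_cj.2 (hW l)⟩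

theorem B_W (l : Fin k) : B ≤ normalizer (W l : Set G) := le_norm_of fun b hb w hw =>
  (h.bg.fr.blk l).nV b ((h.bg.fr.blk l).BL hb) w hw

theorem B_T : B ≤ TT S W := le_inf h.bg.BS (le_iInf h.B_W)

theorem T_B : TT S W ≤ normalizer (B : Set G) := T_le_S.trans h.bg.S_norm_B

theorem cj_Z_of_W {n : G} (hn : n ∈ normalizer (B : Set G)) {i j : Fin k} (e : cj n (W i) = W j) :
    cj n (Z i) = Z j := h.bg.cj_Z hn e

theorem T_Z (l : Fin k) : TT S W ≤ normalizer (Z l : Set G) := fun _ ht =>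
  mem_normalizer_iff_cj.2 (h.cj_Z_of_W (h.T_B ht) (mem_normalizer_iff_cj.1 (T_W l ht)))

theorem z_W (i : Fin k) : z i ∈ W i := (h.bg.fr.blk i).ZV (h.zZ i)

theorem z_ZJ (i : Fin k) : z i ∈ ZJ := h.bg.fr.Z_le i (h.zZ i)

theorem Z_B (i : Fin k) : Z i ≤ B := ((h.bg.fr.Z_le i).trans h.bg.fr.ZJV).trans h.bg.fr.VB

theorem ZJ_B : ZJ ≤ B := h.bg.fr.ZJV.trans h.bg.fr.VB

theorem ZJ_comm {a b : G} (ha : a ∈ ZJ) (hb : b ∈ ZJ) : a * b = b * a :=
  h.bg.fr.Vc (h.bg.fr.ZJV ha) (h.bg.fr.ZJV hb)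

theorem ZJ_sq {a : G} (ha : a ∈ ZJ) : a ^ 2 = 1 := h.bg.fr.Vsq (h.bg.fr.ZJV ha)

theorem z_comm (i : Fin k) {t : G} (ht : t ∈ TT S W) : t * z i = z i * t := h.Tz i t ht

theorem T_D : TT S W ≤ DD z := fun _ ht => mem_DD.2 fun l => h.Tz l _ ht

theorem T_Y (j : Fin k) : TT S W ≤ YY z j := h.T_D.trans DD_le_CT

theorem cZJ_D : centralizer (ZJ : Set G) ≤ DD z := fun _ hx => mem_DD.2 fun l =>
  (mem_centralizer_iff.1 hx _ (h.z_ZJ l)).symm

theorem eq_of_z_mem {i l : Fin k} (h1 : z l ∈ Z i) : i = l := by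
  by_contra hne
  have h2 : z l ∈ Z i ⊓ Z l := ⟨h1, h.zZ l⟩
  rw [h.bg.Z_disj hne, mem_bot] at h2
  exact h.z1 l h2

/-- `n ∈ N_G(B)` centralising `z l` normalises `W l` and `Z l` -/
theorem fx_of_z {n : G} (hn : n ∈ normalizer (B : Set G)) {l : Fin k} (hl : n * z l = z l * n) :
    cj n (W l) = W l ∧ cj n (Z l) = Z l := by
  obtain ⟨σ, hσ⟩ := h.bg.perm_W hn
  have h1 : z l ∈ Z (σ l) := by
    rw [← (hσ l).2, mem_cj]
    have e : n⁻¹ * z l * n = z l := by rw [mul_assoc, ← hl]; group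
    rw [e]
    exact h.zZ l
  have h2 := h.eq_of_z_mem h1
  have h3 := hσ l
  rwa [h2] at h3

/-- **`n ∈ N_G(B) ∩ Y_j` normalises all `W l`, `Z l`** -/
theorem fx_YY {j : Fin k} {n : G} (hn : n ∈ normalizer (B : Set G)) (hY : n ∈ YY z j) (l : Fin k) :
    cj n (W l) = W l ∧ cj n (Z l) = Z l := by
  by_cases hl : l = j
  · subst hl
    obtain ⟨σ, hσ⟩ := h.bg.perm_W hn
    have h1 : σ l = l := by
      by_contra hne
      have h2 := h.fx_of_z hn (mem_YY.1 hY _ hne)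
      have h3 := (hσ (σ l)).1
      rw [h2.1] at h3
      exact hne (σ.injective (h.bg.W_inj h3).symm)
    have h3 := hσ l
    rwa [h1] at h3
  · exact h.fx_of_z hn (mem_YY.1 hY l hl)

/-- a 2-group over `B` normalising all `W l` has order `≤ |T|` -/
theorem card_le {R : Subgroup G} (hR : IsPGroup 2 R) (hB : B ≤ R) (hf : ∀ r ∈ R, ∀ l, cj r (W l) = W l) :
    Nat.card R ≤ Nat.card (TT S W) := by
  have h1 := h.bg.le_norm_B hR hB
  obtain ⟨R', hR', hle⟩ := exists_syl hR h1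
  have hS : Syl (S : Subgroup G) (normalizer (B : Set G)) :=
    ⟨h.bg.S_norm_B, S.isPGroup', fun _ _ hT hST => S.is_maximal' hT hST⟩
  obtain ⟨x, hx, rfl⟩ := syl_conj hS hR'
  rw [← card_cj x⁻¹ R]
  refine Subgroup.card_le_of_le fun y hy => ?_
  rw [mem_cj, inv_inv] at hy
  have h2 : y ∈ (S : Subgroup G) := by
    have h3 := hle hy
    rw [mem_cj] at h3
    have e : x⁻¹ * (x * y * x⁻¹) * x = y := by group
    rwa [e] at h3
  refine mem_T h2 fun l => ?_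
  obtain ⟨σ, hσ⟩ := h.bg.perm_W hx
  have h3 := hf _ hy (σ l)
  rw [← (hσ l).1] at h3
  have h4 := congrArg (cj x⁻¹) h3
  rw [cj_cj, cj_inv_cj, cj_cj] at h4
  have e : x⁻¹ * (x * y * x⁻¹) * x = y := by group
  rwa [e] at h4

/-- **`T` is Sylow in `X`** -/
theorem syl_of {X : Subgroup G} (hT : TT S W ≤ X)
    (hf : ∀ R : Subgroup G, R ≤ X → IsPGroup 2 R → B ≤ R → ∀ r ∈ R, ∀ l, cj r (W l) = W l) : Syl (TT S W) X := by
  refine ⟨hT, T_two, fun R hR h2 hle => ?_⟩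
  symm
  exact Subgroup.eq_of_le_of_card_ge hle (h.card_le h2 (h.B_T.trans hle) (hf R hR h2 (h.B_T.trans hle)))

theorem syl_Y {X : Subgroup G} {j : Fin k} (hT : TT S W ≤ X) (hX : X ≤ YY z j) : Syl (TT S W) X :=
  h.syl_of hT fun _ hR h2 hB _ hr l => (h.fx_YY (h.bg.le_norm_B h2 hB hr) (hX (hR hr)) l).1

/-- `0 < k` -/
theorem exists_idx : ∃ j : Fin k, True := ⟨⟨0, by have := h.two; omega⟩, trivial⟩

theorem syl_D {X : Subgroup G} (hT : TT S W ≤ X) (hX : X ≤ DD z) : Syl (TT S W) X := by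
  obtain ⟨j, -⟩ := h.exists_idx
  exact h.syl_Y hT (hX.trans (DD_le_CT (s := {j}ᶜ)))

/-- `N(T) ≤ N(B)` -/
theorem NT_NB : normalizer (TT S W : Set G) ≤ normalizer (B : Set G) := by
  intro g hg
  rw [mem_normalizer_iff_cj]
  refine h.bg.wc _ T_two h.B_T g ?_
  have h1 := cj_mono g h.B_T
  rwa [mem_normalizer_iff_cj.1 hg] at h1

/-- `n ∈ N_G(B) ∩ N_G(T)` permutes the `z i` -/
theorem cj_z {n : G} (hn : n ∈ normalizer (B : Set G)) (hT : n ∈ normalizer (TT S W : Set G)) {i j : Fin k}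
    (e : cj n (Z i) = Z j) : n * z i * n⁻¹ = z j := by
  refine (h.fx j _ (e ▸ ⟨z i, h.zZ i, rfl⟩) fun t ht => ?_).resolve_left fun e1 => h.z1 i (conj_eq_one_iff.1 e1)
  have h1 : n⁻¹ * t * n ∈ TT S W := by
    have := (mem_normalizer_iff.1 (inv_mem hT) t).1 ht
    rwa [inv_inv] at this
  have h2 := h.Tz i _ h1
  calc t * (n * z i * n⁻¹) = n * ((n⁻¹ * t * n) * z i) * n⁻¹ := by group
    _ = n * (z i * (n⁻¹ * t * n)) * n⁻¹ := by rw [h2]
    _ = n * z i * n⁻¹ * t := by group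

/-- **`N_{Y_j}(T) ≤ D`, and it normalises all `Z l`** -/
theorem norm_T {j : Fin k} {n : G} (hY : n ∈ YY z j) (hT : n ∈ normalizer (TT S W : Set G)) :
    n ∈ DD z ∧ ∀ l, n ∈ normalizer (Z l : Set G) := by
  have hn := h.NT_NB hT
  refine ⟨mem_DD.2 fun l => ?_, fun l => mem_normalizer_iff_cj.2 (h.fx_YY hn hY l).2⟩
  exact mul_inv_eq_iff_eq_mul.1 (h.cj_z hn hT (h.fx_YY hn hY l).2)

/-- Frattini: `N(ZJ) = C(ZJ) N(B)` -/
theorem frattini {g : G} (hg : g ∈ normalizer (ZJ : Set G)) :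
    ∃ d ∈ centralizer (ZJ : Set G), ∃ n ∈ normalizer (B : Set G), g = d * n := by
  have h1 : Syl (cj g B) (centralizer (ZJ : Set G)) := by
    refine ⟨?_, isPGroup_cj g h.bg.bau_two, fun R hR h2 hle => ?_⟩
    · have := cj_mono g h.bg.syl_B.1
      rwa [cj_centralizer, mem_normalizer_iff_cj.1 hg] at this
    · symm
      refine Subgroup.eq_of_le_of_card_ge hle ?_
      rw [card_cj]
      obtain ⟨R', hR', hle'⟩ := exists_syl h2 hR
      obtain ⟨x, -, rfl⟩ := syl_conj h.bg.syl_B hR'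
      have h3 := Subgroup.card_le_of_le hle'
      rwa [card_cj] at h3
  obtain ⟨d, hd, e⟩ := syl_conj h.bg.syl_B h1
  refine ⟨d, hd, d⁻¹ * g, ?_, by group⟩
  rw [mem_normalizer_iff_cj, ← cj_cj, ← e, cj_inv_cj]

/-- **`N_{Y_j}(ZJ)` normalises all `Z l`** -/
theorem norm_ZJ {j : Fin k} {g : G} (hY : g ∈ YY z j) (hZ : g ∈ normalizer (ZJ : Set G)) (l : Fin k) :
    g ∈ normalizer (Z l : Set G) := by
  obtain ⟨d, hd, n, hn, rfl⟩ := h.frattini hZ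
  have hdY : d ∈ YY z j := DD_le_CT (h.cZJ_D hd)
  have hnY : n ∈ YY z j := by
    have := mul_mem (inv_mem hdY) hY
    rwa [inv_mul_cancel_left] at this
  refine mul_mem ?_ (mem_normalizer_iff_cj.2 (h.fx_YY hn hnY l).2)
  exact centralizer_le_normalizer _ (centralizer_le (h.bg.fr.Z_le l) hd)

/-- `L i ≤ Y i` -/
theorem L_Y (i : Fin k) : L i ≤ YY z i := fun l hl => mem_YY.2 fun m hm =>
  h.bg.fr.LC i l hl _ (h.z_ZJ m) (h.bg.fr.WjC i m (Ne.symm hm) (h.z_W m))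

theorem L_W (i : Fin k) : L i ≤ normalizer (W i : Set G) := le_norm_of fun l hl w hw => (h.bg.fr.blk i).nV l hl w hw

/-- the point `x ∈ Y_i ∩ N(Z_i)` moving `z_i` to `w ∈ Z_i` -/
theorem tor {i : Fin k} {w : G} (hw : w ∈ Z i) (hw1 : w ≠ 1) :
    ∃ x ∈ YY z i, x ∈ normalizer (Z i : Set G) ∧ x ∈ normalizer (W i : Set G) ∧ x * z i * x⁻¹ = w := by
  obtain ⟨x, hx, hxB, e⟩ := h.bg.tor i (h.zZ i) (h.z1 i) hw hw1
  exact ⟨x, h.L_Y i hx, mem_normalizer_iff_cj.2 (h.fx_YY hxB (h.L_Y i hx) i).2, h.L_W i hx, e⟩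

end FrK

end Cfsg.Agent.Omega.EK3.FK

end

section


/-!
# (4F-K): minimal parabolics of `Y_j` over `T`, and `Y_j = ⟨D, Y_j ∩ N(Z_j)⟩`

* `FrK.char2_CT`, `FrK.o2_Y_le_T`, `FrK.char2_R`;
* `FrK.par` : a `T`-minimal `R ≤ Y_j` centralises `z_j`, or normalises all `Z l`, or `R = ⟨T, L'⟩`, where `L'` normalises
  `W_j` and centralises the other `Z l`;
* `FrK.trW` : `Y_i ∩ N(Z_i) ∩ N(W_i)` is transitive on `W_i − Z_i`;
* `FrK.norm_W_le` : `N_{Y_i}(W_i) ≤ ⟨D, Y_i ∩ N(Z_i)⟩`;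
* **`FrK.gen`** : `Y_i ≤ ⟨D, Y_i ∩ N(Z_i)⟩`.
-/

set_option autoImplicit false
set_option linter.unusedSectionVars false

namespace Cfsg.Agent.Omega.EK3.FK

open Subgroup Cfsg Cfsg.Agent.ZN.ChoiceBase
open Cfsg.Agent.ZN (jj zj bau zc zl o2)
open Cfsg.Agent.ZN.ChoiceSit (Syl exists_syl syl_conj)
open Cfsg.Agent.Omega.NO3S.EThree.Frame
open Cfsg.Agent.Omega.Node.MultiOf
open Cfsg.Agent.Omega.OM.LevD (LB)
open Cfsg.Agent.MinSimple.MinParabolic (IsMinPar le_of_forall)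
open Cfsg.Agent.MinSimple.VModule (o2_isPGroup le_o2 le_normalizer_o2 o2_le_of_sylow)

universe u

variable {G : Type u} [Group G] {k : ℕ}

namespace FrK

variable [Finite G] {S : Sylow 2 G} {P K B ZJ : Subgroup G} {L W Z C : Fin k → Subgroup G} {z : Fin k → G}
  (h : FrK S P K B ZJ L W Z C z)
include h

/-- `C_G(z_l : l ∈ s)` has characteristic 2 -/
theorem char2_CT {s : Set (Fin k)} (hs : s.Nonempty) :
    CT z s ⊓ centralizer (o2 (CT z s) : Set G) ≤ o2 (CT z s) := by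
  have e : CT z s = centralizer ((closure (z '' s) : Subgroup G) : Set G) := (centralizer_closure _).symm
  have hle : closure (z '' s) ≤ ZJ := by
    rw [closure_le]
    rintro _ ⟨l, -, rfl⟩
    exact h.z_ZJ l
  rw [e]
  refine NOne.LemmaT.char2_centralizer h.bg.hyp.ctx.char2 (h.bg.bau_two.to_le (hle.trans h.ZJ_B)) ?_
  obtain ⟨l, hl⟩ := hs
  intro e1
  have h1 : z l ∈ closure (z '' s) := subset_closure ⟨l, hl, rfl⟩
  rw [e1, mem_bot] at h1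
  exact h.z1 l h1

theorem exists_ne (j : Fin k) : ∃ i, i ≠ j := by
  have h3 := h.two
  by_cases e : j = ⟨0, by omega⟩
  · exact ⟨⟨1, by omega⟩, by rw [e]; simp⟩
  · exact ⟨⟨0, by omega⟩, fun e' => e e'.symm⟩

omit h in
theorem exists_third (h3 : 3 ≤ k) (i j : Fin k) : ∃ l, l ≠ i ∧ l ≠ j := by
  classical
  by_contra hcon
  push Not at hcon
  have h1 : (Finset.univ : Finset (Fin k)) ⊆ {i, j} := by
    intro l _
    by_cases e : l = i
    · simp [e]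
    · simp [hcon l e]
  have h2 := (Finset.card_le_card h1).trans (Finset.card_le_two)
  rw [Finset.card_univ, Fintype.card_fin] at h2
  omega

theorem ne_compl (j : Fin k) : ({j}ᶜ : Set (Fin k)).Nonempty := by
  obtain ⟨i, hi⟩ := h.exists_ne j
  exact ⟨i, hi⟩

omit h in
theorem ne_compl2 (h3 : 3 ≤ k) (i j : Fin k) : (({i, j} : Set (Fin k))ᶜ).Nonempty := by
  obtain ⟨l, h1, h2⟩ := exists_third h3 i j
  exact ⟨l, fun e => by
    rcases e with e | e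
    · exact h1 e
    · exact h2 e⟩

theorem o2_Y_le_T (j : Fin k) : o2 (YY z j) ≤ TT S W :=
  o2_le_of_sylow T_two (Cfsg.Agent.ZN.ChoiceSit.syl_not_dvd (h.syl_Y (h.T_Y j) le_rfl))

/-- groups between `T` and `Y_j` have characteristic 2 -/
theorem char2_R {R : Subgroup G} {j : Fin k} (hT : TT S W ≤ R) (hR : R ≤ YY z j) :
    R ⊓ centralizer (o2 R : Set G) ≤ o2 R := by
  have h1 : o2 (YY z j) ≤ o2 R := MinSimple.Basic.o2_normal_le_o2 ((h.o2_Y_le_T j).trans hT) hR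
  intro x hx
  exact h1 (h.char2_CT (h.ne_compl j) ⟨hR hx.1, centralizer_le h1 hx.2⟩)

theorem z_zc (j : Fin k) : z j ∈ zc (TT S W) :=
  mem_zc.2 ⟨h.B_T (h.Z_B j (h.zZ j)), h.ZJ_sq (h.z_ZJ j), fun t ht => h.Tz j t ht⟩

/-- **minimal parabolics of `Y_j` over `T`** -/
theorem par {R : Subgroup G} {j : Fin k} (hR : IsMinPar (TT S W) R) (hY : R ≤ YY z j) :
    (∀ r ∈ R, r * z j = z j * r) ∨ (∀ l, R ≤ normalizer (Z l : Set G)) ∨
      ∃ L' : Subgroup G, L' ≤ R ∧ R ≤ L' ⊔ TT S W ∧ L' ≤ normalizer (W j : Set G) ∧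
        ∀ l, l ≠ j → L' ≤ centralizer (Z l : Set G) := by
  by_cases h1 : ∀ r ∈ R, r * z j = z j * r
  · exact Or.inl h1
  right
  by_cases hK : K ≤ o2 R
  · left
    intro l r hr
    exact h.norm_ZJ (hY hr) (h.lb.nrm _ (o2_isPGroup R) hK (le_normalizer_o2 R hr)) l
  right
  have h2 : ¬ R ≤ centralizer (zc (TT S W) : Set G) := by
    intro hc
    apply h1
    intro r hr
    exact (mem_centralizer_iff.1 (hc hr) _ (h.z_zc j)).symm
  obtain ⟨L', V', hbl, hLR, hRL⟩ := h.blk R hR (h.syl_Y hR.le hY) (h.char2_R hR.le hY) hK h2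
  obtain ⟨i, rfl, hc⟩ := h.uni L' _ hbl
  obtain ⟨⟨Z', q', hF⟩, -⟩ := hbl
  have hij : i = j := by
    by_contra hne
    apply h1
    have h3 : L' ≤ centralizer ({z j} : Set G) := by
      intro l hl
      rw [mem_centralizer_singleton_iff]
      exact hc _ (h.z_ZJ j) (h.bg.fr.WjC i j hne (h.z_W j)) l hl
    have h4 : R ≤ centralizer ({z j} : Set G) := hRL.trans (sup_le h3 fun t ht => by
      rw [mem_centralizer_singleton_iff]; exact h.Tz j t ht)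
    exact fun r hr => mem_centralizer_singleton_iff.1 (h4 hr)
  subst hij
  refine ⟨L', hLR, hRL, le_norm_of hF.nV, fun l hl x hx => ?_⟩
  rw [mem_centralizer_iff]
  intro y hy
  exact (hc y (h.bg.fr.Z_le l hy) (h.bg.fr.WjC i l (Ne.symm hl) ((h.bg.fr.blk l).ZV hy)) x hx).symm

/-- elements of `C(C_i) ∩ N(B)`… centralise the other `z l` -/
theorem YY_of_C {i : Fin k} {x : G} (hx : x ∈ centralizer (C i : Set G)) : x ∈ YY z i := mem_YY.2 fun l hl =>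
  (mem_centralizer_iff.1 hx _ (h.bg.fr.WjC i l (Ne.symm hl) (h.z_W l))).symm

/-- **`Y_i ∩ N(Z_i) ∩ N(W_i)` is transitive on `W_i − Z_i`** -/
theorem trW {i : Fin k} {v v' : G} (hv : v ∈ W i) (hvZ : v ∉ Z i) (hv' : v' ∈ W i) (hvZ' : v' ∉ Z i) :
    ∃ x ∈ YY z i, x ∈ normalizer (Z i : Set G) ∧ x ∈ normalizer (W i : Set G) ∧ x * v * x⁻¹ = v' := by
  obtain ⟨g, hg, hgC, hgZ, -, h1, -⟩ := (h.bg.scal (by norm_num) i).ex v hv hvZ v' hv' hvZ'
  have hgW : g ∈ normalizer (W i : Set G) := mem_normalizer_iff_cj.2 (h.bg.fix hg hgC i)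
  have h2 : g * v * g⁻¹ ∈ W i := (mem_normalizer_iff.1 hgW v).1 hv
  have h3 : g * v * g⁻¹ ∉ Z i := fun hc => hvZ ((mem_normalizer_iff.1 hgZ v).2 hc)
  obtain ⟨b, hb, hbC, e⟩ := h.bg.root i _ h2 h3 _ (inv_mem h1)
  refine ⟨b * g, mul_mem (h.YY_of_C hbC) (h.YY_of_C hgC), mul_mem ?_ hgZ, mul_mem (h.B_W i hb) hgW, ?_⟩
  · exact h.T_Z i (h.B_T hb)
  · have hc : (v'⁻¹ * (g * v * g⁻¹))⁻¹ * (g * v * g⁻¹) = v' := by
      have e1 : v' * (g * v * g⁻¹) = g * v * g⁻¹ * v' :=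
        h.bg.fr.Vc (h.bg.fr.WV i hv') (h.bg.fr.WV i h2)
      calc (v'⁻¹ * (g * v * g⁻¹))⁻¹ * (g * v * g⁻¹) = (g * v * g⁻¹)⁻¹ * (v' * (g * v * g⁻¹)) := by group
        _ = v' := by rw [e1]; group
    calc b * g * v * (b * g)⁻¹ = b * (g * v * g⁻¹) * b⁻¹ * (g * v * g⁻¹)⁻¹ * (g * v * g⁻¹) := by group
      _ = v' := by rw [e, hc]

/-- **`N_{Y_i}(W_i) ≤ ⟨D, Y_i ∩ N(Z_i)⟩`** -/
theorem norm_W_le {i : Fin k} (hp : ∃ f ∈ DD z, f ∈ normalizer (W i : Set G) ∧ f ∉ normalizer (Z i : Set G)) :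
    YY z i ⊓ normalizer (W i : Set G) ≤ DD z ⊔ (YY z i ⊓ normalizer (Z i : Set G)) := by
  obtain ⟨f, hfD, hfW, hfZ⟩ := hp
  have hfY : f ∈ YY z i := DD_le_CT hfD
  -- all vectors
  have key : ∀ w ∈ W i, w ≠ 1 → ∃ x ∈ YY z i, x ∈ DD z ⊔ (YY z i ⊓ normalizer (Z i : Set G)) ∧
      x * z i * x⁻¹ = w := by
    have hZ : ∀ w ∈ Z i, w ≠ 1 → ∃ x ∈ YY z i, x ∈ DD z ⊔ (YY z i ⊓ normalizer (Z i : Set G)) ∧
        x * z i * x⁻¹ = w := by
      intro w hw hw1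
      obtain ⟨x, hxY, hxZ, -, e⟩ := h.tor hw hw1
      exact ⟨x, hxY, mem_sup_right ⟨hxY, hxZ⟩, e⟩
    obtain ⟨w₀, hw₀, hn⟩ : ∃ w ∈ Z i, f * w * f⁻¹ ∉ Z i := by
      by_contra hcon
      push Not at hcon
      apply hfZ
      rw [mem_normalizer_iff_cj]
      refine Subgroup.eq_of_le_of_card_ge ?_ (by rw [card_cj])
      rintro _ ⟨w, hw, rfl⟩
      exact hcon w hw
    have hw01 : w₀ ≠ 1 := by
      rintro rfl
      apply hn
      rw [mul_one, mul_inv_cancel]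
      exact one_mem _
    obtain ⟨x₀, hx₀Y, hx₀, e₀⟩ := hZ w₀ hw₀ hw01
    have hfw : f * w₀ * f⁻¹ ∈ W i := (mem_normalizer_iff.1 hfW w₀).1 ((h.bg.fr.blk i).ZV hw₀)
    intro w hw hw1
    by_cases hwZ : w ∈ Z i
    · exact hZ w hwZ hw1
    · obtain ⟨y, hyY, hyZ, -, ey⟩ := h.trW hfw hn hw hwZ
      refine ⟨y * f * x₀, mul_mem (mul_mem hyY hfY) hx₀Y,
        mul_mem (mul_mem (mem_sup_right ⟨hyY, hyZ⟩) (mem_sup_left hfD)) hx₀, ?_⟩
      calc y * f * x₀ * z i * (y * f * x₀)⁻¹ = y * (f * (x₀ * z i * x₀⁻¹) * f⁻¹) * y⁻¹ := by group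
        _ = w := by rw [e₀, ey]
  rintro g ⟨hgY, hgW⟩
  have h1 : g * z i * g⁻¹ ∈ W i := (mem_normalizer_iff.1 hgW _).1 (h.z_W i)
  obtain ⟨x, hxY, hx, e⟩ := key _ h1 fun e1 => h.z1 i (conj_eq_one_iff.1 e1)
  have h2 : x⁻¹ * g ∈ DD z := by
    refine mem_DD_of (mul_mem (inv_mem hxY) hgY) ?_
    have e2 : x⁻¹ * g * z i * (x⁻¹ * g)⁻¹ = z i := by
      calc x⁻¹ * g * z i * (x⁻¹ * g)⁻¹ = x⁻¹ * (g * z i * g⁻¹) * x := by group
        _ = x⁻¹ * (x * z i * x⁻¹) * x := by rw [e]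
        _ = z i := by group
    exact mul_inv_eq_iff_eq_mul.1 e2
  have e3 : g = x * (x⁻¹ * g) := by group
  rw [e3]
  exact mul_mem hx (mem_sup_left h2)

/-- **`Y_i = ⟨D, Y_i ∩ N(Z_i)⟩`** -/
theorem gen {i : Fin k} (hp : ∃ f ∈ DD z, f ∈ normalizer (W i : Set G) ∧ f ∉ normalizer (Z i : Set G)) :
    YY z i ≤ DD z ⊔ (YY z i ⊓ normalizer (Z i : Set G)) := by
  refine le_of_forall (h.T_Y i) (fun n hn => mem_sup_left (h.norm_T hn.1 hn.2).1) fun R hR hY => ?_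
  rcases h.par hR hY with h1 | h1 | ⟨L', hLR, hRL, hLW, -⟩
  · exact fun r hr => mem_sup_left (mem_DD_of (hY hr) (h1 r hr))
  · exact fun r hr => mem_sup_right ⟨hY hr, h1 i hr⟩
  · refine hRL.trans (sup_le ?_ (h.T_D.trans le_sup_left))
    exact (le_inf (hLR.trans hY) hLW).trans (h.norm_W_le hp)

end FrK

end Cfsg.Agent.Omega.EK3.FK

end

section


/-!
# (4F-K): the frame of STAR

* `FrK.o2_CT_le_T` : `O₂(C_G(z_l : l ∈ s)) ≤ T`;
* `FrK.EE_le_zc` : `⟨ZT^Y⟩ ≤ Ω₁Z(O₂(C_s))` for `Y ≤ C_s`, `ZT = ⟨z_l⟩`;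
* `FrK.no` : `(NO)`;
* **`FrK.fr`** : 520's frame `StarE.Fr` with `O = O₂(D)`, `N i = ⟨z_i^{Y_i}⟩`, `L i = Y_i ∩ N(Z_i)`.
-/

set_option autoImplicit false
set_option linter.unusedSectionVars false

namespace Cfsg.Agent.Omega.EK3.FK

open Subgroup Cfsg Cfsg.Agent.ZN.ChoiceBase
open Cfsg.Agent.ZN (jj zj bau zc zl o2)
open Cfsg.Agent.ZN.ChoiceSit (Syl exists_syl syl_conj)
open Cfsg.Agent.Omega.NO3S.EThree.Frame
open Cfsg.Agent.Omega.NO3S.EThree.ExactA (eab_mono eab_iff)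
open Cfsg.Agent.Omega.Node.MultiOf
open Cfsg.Agent.Omega.OM.LevD (LB)
open Cfsg.Agent.Omega.EK3.StarE
open Cfsg.Agent.Omega.EK3.Rank (NoOn)
open Cfsg.Agent.Omega.ML.Final (MLK)
open Cfsg.Agent.MinSimple.MinParabolic (IsMinPar le_of_forall)
open Cfsg.Agent.MinSimple.VModule (o2_isPGroup le_o2 le_normalizer_o2 o2_le_of_sylow)

universe u

variable {G : Type u} [Group G] {k : ℕ}

/-- `⟨z_l : l⟩` -/
def ZT (z : Fin k → G) : Subgroup G := closure (Set.range z)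

/-- `N_i = ⟨z_i^{Y_i}⟩` -/
def NN (z : Fin k → G) (i : Fin k) : Subgroup G := EE (zpowers (z i)) (YY z i)

/-- `L_i = Y_i ∩ N(Z_i)` -/
def LL (z : Fin k → G) (Z : Fin k → Subgroup G) (i : Fin k) : Subgroup G := YY z i ⊓ normalizer (Z i : Set G)

theorem z_ZT (z : Fin k → G) (i : Fin k) : z i ∈ ZT z := subset_closure ⟨i, rfl⟩

theorem z_NN (z : Fin k → G) (i : Fin k) : z i ∈ NN z i := le_EE _ _ (mem_zpowers _)

theorem cj_zc [Finite G] {g : G} {X : Subgroup G} (hg : g ∈ normalizer (X : Set G)) : cj g (zc (o2 X)) = zc (o2 X) := by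
  have h1 : cj g (o2 X) = o2 X := by rw [← pCore_cj, mem_normalizer_iff_cj.1 hg]
  have key : ∀ g : G, cj g (o2 X) = o2 X → cj g (zc (o2 X)) ≤ zc (o2 X) := by
    rintro g hg _ ⟨x, hx, rfl⟩
    obtain ⟨h2, h3, h4⟩ := mem_zc.1 hx
    refine mem_zc.2 ⟨hg ▸ ⟨x, h2, rfl⟩, ?_, fun y hy => ?_⟩
    · change (g * x * g⁻¹) ^ 2 = 1
      rw [conj_pow, h3, mul_one, mul_inv_cancel]
    · rw [← hg] at hy
      obtain ⟨y, hy, rfl⟩ := hy
      have := h4 y hy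
      change g * y * g⁻¹ * (g * x * g⁻¹) = g * x * g⁻¹ * (g * y * g⁻¹)
      calc g * y * g⁻¹ * (g * x * g⁻¹) = g * (y * x) * g⁻¹ := by group
        _ = g * (x * y) * g⁻¹ := by rw [this]
        _ = _ := by group
  exact Subgroup.eq_of_le_of_card_ge (key g h1) (by rw [card_cj])

theorem EE_le_zc [Finite G] {X Y V : Subgroup G} (hV : V ≤ zc (o2 X)) (hY : Y ≤ X) : EE V Y ≤ zc (o2 X) :=
  EE_le fun y hy => (cj_mono y hV).trans (cj_zc (le_normalizer (hY hy))).le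

theorem zc_cent (T : Subgroup G) : zc T ≤ centralizer (T : Set G) := fun x hx => by
  rw [mem_centralizer_iff]
  exact (mem_zc.1 hx).2.2

theorem zc_le (T : Subgroup G) : zc T ≤ T := fun _ hx => (mem_zc.1 hx).1

namespace FrK

variable [Finite G] {S : Sylow 2 G} {P K B ZJ : Subgroup G} {L W Z C : Fin k → Subgroup G} {z : Fin k → G}
  (h : FrK S P K B ZJ L W Z C z)
include h

theorem exists_v (i : Fin k) : ∃ v ∈ W i, v ∉ Z i := by
  by_contra hcon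
  push Not at hcon
  have h1 := (h.bg.fr.blk i).card
  have h2 := Subgroup.card_le_of_le (show W i ≤ Z i from hcon)
  have h3 : 0 < Nat.card (Z i) := Nat.card_pos
  nlinarith [(h.bg.fr.blk i).one]

/-- **`O₂(C_G(z_l : l ∈ s)) ≤ T`** -/
theorem o2_CT_le_T (s : Set (Fin k)) : o2 (CT z s) ≤ TT S W := by
  have hTX : TT S W ≤ CT z s := h.T_D.trans DD_le_CT
  have hn : TT S W ≤ normalizer (o2 (CT z s) : Set G) := hTX.trans (le_normalizer_o2 _)
  have h2 : IsPGroup 2 (TT S W ⊔ o2 (CT z s) : Subgroup G) :=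
    IsPGroup.to_sup_of_normal_right' T_two (o2_isPGroup _) hn
  have hB : B ≤ TT S W ⊔ o2 (CT z s) := h.B_T.trans le_sup_left
  have hNB := h.bg.le_norm_B h2 hB
  have hfix : ∀ t ∈ o2 (CT z s), ∀ i, cj t (W i) = W i := by
    intro t ht i
    have hX : t ∈ CT z s := Cfsg.Agent.ZN.o2_le _ ht
    by_cases hi : i ∈ s
    · exact (h.fx_of_z (hNB (mem_sup_right ht)) (mem_CT.1 hX i hi)).1
    obtain ⟨σ, hσ⟩ := h.bg.perm_W (hNB (mem_sup_right ht))
    by_cases hji : σ i = i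
    · rw [(hσ i).1, hji]
    exfalso
    obtain ⟨m, hm⟩ := σ.surjective i
    have hmi : m ≠ i := by
      rintro rfl
      exact hji hm
    obtain ⟨v, hv, hvZ⟩ := h.exists_v i
    obtain ⟨ρ, hρP, hρC, w, hw, e⟩ := h.bg.tr i v hv (by rintro rfl; exact hvZ (one_mem _))
    have hρX : ρ ∈ CT z s := CT_mono (Set.subset_compl_singleton_iff.2 hi) (h.YY_of_C hρC)
    have hg : t * (ρ * t⁻¹ * ρ⁻¹) ∈ o2 (CT z s) :=
      mul_mem ht ((mem_normalizer_iff.1 (le_normalizer_o2 _ hρX) _).1 (inv_mem ht))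
    have hgJ := h.bg.norm_ZJ (hNB (mem_sup_right hg))
    have hm' : t⁻¹ * w * t ∈ Z m := by
      have h3 := (hσ m).2
      rw [hm] at h3
      rw [← h3, mem_cj] at hw
      exact hw
    have hρm := mem_centralizer_iff.1 hρC _ (h.bg.fr.WjC i m hmi.symm ((h.bg.fr.blk m).ZV hm'))
    have e' : (t * (ρ * t⁻¹ * ρ⁻¹)) * v * (t * (ρ * t⁻¹ * ρ⁻¹))⁻¹ = w := by
      rw [← e]
      calc (t * (ρ * t⁻¹ * ρ⁻¹)) * (ρ * w * ρ⁻¹) * (t * (ρ * t⁻¹ * ρ⁻¹))⁻¹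
          = t * (ρ * (t⁻¹ * w * t) * ρ⁻¹) * t⁻¹ := by group
        _ = t * (t⁻¹ * w * t) * t⁻¹ := by rw [← hρm, mul_inv_cancel_right]
        _ = w := by group
    apply h.bg.not_zj hv hvZ
    refine (mem_normalizer_iff.1 hgJ _).2 ?_
    rw [e']
    exact h.bg.fr.Z_le i hw
  have h3 : ∀ r ∈ TT S W ⊔ o2 (CT z s), ∀ l, cj r (W l) = W l := by
    intro r hr l
    have h4 : TT S W ⊔ o2 (CT z s) ≤ normalizer (W l : Set G) :=
      sup_le (T_W l) fun t ht => mem_normalizer_iff_cj.2 (hfix t ht l)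
    exact mem_normalizer_iff_cj.1 (h4 hr)
  have h4 := Subgroup.eq_of_le_of_card_ge (le_sup_left (a := TT S W)) (h.card_le h2 hB h3)
  rw [h4]
  exact le_sup_right

theorem o2_CT_le_D (s : Set (Fin k)) : o2 (CT z s) ≤ o2 (DD z) :=
  MinSimple.Basic.o2_normal_le_o2 ((h.o2_CT_le_T s).trans h.T_D) DD_le_CT

theorem z_D (l : Fin k) : z l ∈ DD z := mem_DD.2 fun m => h.ZJ_comm (h.z_ZJ l) (h.z_ZJ m)

theorem ZT_le_zc {s : Set (Fin k)} (hs : s.Nonempty) : ZT z ≤ zc (o2 (CT z s)) := by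
  unfold ZT
  rw [closure_le]
  rintro _ ⟨l, rfl⟩
  have h1 : z l ∈ centralizer (o2 (CT z s) : Set G) := by
    rw [mem_centralizer_iff]
    exact fun t ht => h.Tz l t (h.o2_CT_le_T s ht)
  exact mem_zc.2 ⟨h.char2_CT hs ⟨DD_le_CT (h.z_D l), h1⟩, h.ZJ_sq (h.z_ZJ l), fun y hy => h.Tz l y (h.o2_CT_le_T s hy)⟩

theorem YY_CC (i j : Fin k) : YY z i ≤ CC z i j :=
  CT_mono (Set.compl_subset_compl.2 (Set.singleton_subset_iff.2 (Or.inl rfl)))

theorem YY_CC' (i j : Fin k) : YY z j ≤ CC z i j :=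
  CT_mono (Set.compl_subset_compl.2 (Set.singleton_subset_iff.2 (Or.inr rfl)))

theorem EE_zc (h3 : 3 ≤ k) (i j : Fin k) : EE (ZT z) (YY z i ⊔ YY z j) ≤ zc (o2 (CC z i j)) :=
  EE_le_zc (h.ZT_le_zc (ne_compl2 h3 i j)) (sup_le (h.YY_CC i j) (h.YY_CC' i j))

theorem NN_EE (i : Fin k) : NN z i ≤ EE (ZT z) (YY z i) :=
  EE_le fun y hy => (cj_mono y (zpowers_le.2 (z_ZT z i))).trans (cj_le_EE hy)

theorem NN_zc (h3 : 3 ≤ k) (i j : Fin k) : NN z i ≤ zc (o2 (CC z i j)) :=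
  (h.NN_EE i).trans ((EE_mono le_sup_left).trans (h.EE_zc h3 i j))

theorem NN_zc' (h3 : 3 ≤ k) (i j : Fin k) : NN z j ≤ zc (o2 (CC z i j)) :=
  (h.NN_EE j).trans ((EE_mono le_sup_right).trans (h.EE_zc h3 i j))

/-- `N_i ≤ Ω₁Z(O₂(Y_i))` (`k ≥ 2`) -/
theorem NN_zcY (i : Fin k) : NN z i ≤ zc (o2 (YY z i)) :=
  (h.NN_EE i).trans (EE_le_zc (h.ZT_le_zc (h.ne_compl i)) le_rfl)

theorem NN_O (i : Fin k) : NN z i ≤ o2 (DD z) := (h.NN_zcY i).trans ((zc_le _).trans (h.o2_CT_le_D _))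

theorem NN_comm (h3 : 3 ≤ k) (i j : Fin k) : NN z i ≤ centralizer (NN z j : Set G) :=
  (h.NN_zc h3 i j).trans ((zc_cent _).trans (centralizer_le ((h.NN_zc' h3 i j).trans (zc_le _))))

theorem NN_ab (i : Fin k) : NN z i ≤ centralizer (NN z i : Set G) :=
  (h.NN_zcY i).trans ((zc_cent _).trans (centralizer_le ((h.NN_zcY i).trans (zc_le _))))

theorem NN_sq (i : Fin k) {x : G} (hx : x ∈ NN z i) : x ^ 2 = 1 := (mem_zc.1 (h.NN_zcY i hx)).2.1

omit h in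
theorem NN_norm (i : Fin k) : YY z i ≤ normalizer (NN z i : Set G) := norm_EE _ _

/-- `X := C_{Y_i}(N_i) ≤ D`, `O₂(D) ∩ C(N_i) = O₂(X)` -/
theorem OC_eq (i : Fin k) : o2 (DD z) ⊓ centralizer (NN z i : Set G) = o2 (YY z i ⊓ centralizer (NN z i : Set G)) := by
  have hXD : YY z i ⊓ centralizer (NN z i : Set G) ≤ DD z := by
    rintro x ⟨h1, h2⟩
    exact mem_DD_of h1 (mem_centralizer_iff.1 h2 _ (z_NN z i)).symm
  have hnX : YY z i ≤ normalizer ((YY z i ⊓ centralizer (NN z i : Set G) : Subgroup G) : Set G) := by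
    intro y hy
    rw [mem_normalizer_iff_cj, cj_inf, cj_centralizer, mem_normalizer_iff_cj.1 (NN_norm i hy),
      mem_normalizer_iff_cj.1 (le_normalizer hy)]
  apply le_antisymm
  · refine le_o2 (le_inf (inf_le_left.trans ((Cfsg.Agent.ZN.o2_le _).trans DD_le_CT)) inf_le_right)
      ((o2_isPGroup _).to_le inf_le_left) ?_
    intro x hx
    have h3 : cj x (o2 (DD z)) = o2 (DD z) := mem_normalizer_iff_cj.1 (le_normalizer_o2 _ (hXD hx))
    rw [mem_normalizer_iff_cj, cj_inf, cj_centralizer, mem_normalizer_iff_cj.1 (NN_norm i hx.1), h3]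
  · refine le_inf (le_o2 ((Cfsg.Agent.ZN.o2_le _).trans hXD) (o2_isPGroup _) ?_)
      ((Cfsg.Agent.ZN.o2_le _).trans inf_le_right)
    intro x hx
    rw [mem_normalizer_iff_cj, ← pCore_cj, mem_normalizer_iff_cj.1 (hnX (DD_le_CT hx))]

theorem YQ (i : Fin k) : YY z i ≤ normalizer ((o2 (DD z) ⊓ centralizer (NN z i : Set G) : Subgroup G) : Set G) := by
  rw [h.OC_eq i]
  intro x hx
  have hnX : x ∈ normalizer ((YY z i ⊓ centralizer (NN z i : Set G) : Subgroup G) : Set G) := by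
    rw [mem_normalizer_iff_cj, cj_inf, cj_centralizer, mem_normalizer_iff_cj.1 (NN_norm i hx),
      mem_normalizer_iff_cj.1 (le_normalizer hx)]
  rw [mem_normalizer_iff_cj, ← pCore_cj, mem_normalizer_iff_cj.1 hnX]

/-- **(NO)** -/
theorem no (hML : MLK.{u, u}) {j : Fin k} (hK : IsKGroup (YY z j)) : NoOn (o2 (DD z)) (NN z j) := by
  intro A hA2 hA
  have hD : ∀ {g : G}, g ∈ YY z j → g * z j * g⁻¹ * (z j)⁻¹ = 1 → g ∈ DD z := by
    intro g hg hgm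
    rw [mul_inv_eq_one] at hgm
    exact mem_DD_of hg (mul_inv_eq_iff_eq_mul.1 hgm)
  have hmain : (A ⊓ centralizer (NN z j : Set G)).relIndex A ≤
      (NN z j ⊓ centralizer (A : Set G)).relIndex (NN z j) := by
    refine hML.grp (C := YY z j) (W := NN z j) (Y := ⊥) (T := TT S W)
      (Q := o2 (DD z)) (A := A) (w := z j) hK
      { nW := NN_norm j
        nY := fun x _ => by
          rw [mem_normalizer_iff]
          intro y
          rw [mem_bot, mem_bot, conj_eq_one_iff]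
        YW := bot_le
        WY := fun x _ => by
          rw [mem_normalizer_iff]
          intro y
          rw [mem_bot, mem_bot, conj_eq_one_iff]
        sq := fun x hx => by
          rw [mem_bot, ← pow_two]
          exact h.NN_sq j hx
        mem := z_NN z j
        gen := fun U hmU _ hU => by
          refine EE_le fun y hy => ?_
          have h1 : cj y U = U := mem_normalizer_iff_cj.1 (hU hy)
          rw [← h1]
          exact cj_mono y (zpowers_le.2 hmU)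
        TC := h.T_Y j
        two := T_two
        odd := Cfsg.Agent.ZN.ChoiceSit.syl_not_dvd (h.syl_Y (h.T_Y j) le_rfl)
        fixT := fun t ht => by
          rw [mem_bot, h.Tz j t ht]; group
        QC := (Cfsg.Agent.ZN.o2_le _).trans DD_le_CT
        Q2 := o2_isPGroup _
        fixQ := fun x hx => by
          rw [mem_bot, mem_DD.1 (Cfsg.Agent.ZN.o2_le _ hx) j]; group
        nrmQ := fun g hg hgm x hx => by
          rw [mem_bot] at hgm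
          exact (mem_normalizer_iff.1 (le_normalizer_o2 _ (hD hg hgm)) x).1 hx
        AQ := hA
        Asq := fun a ha x hx => by
          have h1 := (eab_iff.1 hA2).2 a ha
          rw [mem_bot]
          calc a * (a * x * a⁻¹) * a⁻¹ * x⁻¹ = a ^ 2 * x * (a ^ 2)⁻¹ * x⁻¹ := by rw [pow_two]; group
            _ = 1 := by rw [h1]; group } ?_ ?_
    · intro a
      rw [mem_inf]
      refine and_congr_right fun ha => ?_
      rw [mem_centralizer_iff]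
      refine forall₂_congr fun x hx => ?_
      rw [mem_bot, mul_inv_eq_one, mul_inv_eq_iff_eq_mul, eq_comm]
    · intro x
      rw [mem_inf]
      refine and_congr_right fun hx => ?_
      rw [mem_centralizer_iff]
      refine forall₂_congr fun a ha => ?_
      rw [mem_bot, mul_inv_eq_one, mul_inv_eq_iff_eq_mul]
  rwa [inf_relIndex_left, inf_relIndex_left] at hmain

/-- (E): `⟨D, L_i⟩` normalises no nontrivial 2-subgroup -/
theorem nonloc (hE : NLoc (KZ B ZJ)) (hgen : ∀ i, YY z i ≤ DD z ⊔ LL z Z i) {U : Subgroup G} (hU2 : IsPGroup 2 U)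
    (hD : DD z ≤ normalizer (U : Set G)) (hL : ∀ i, LL z Z i ≤ normalizer (U : Set G)) : U = ⊥ := by
  refine hE U hU2 (sup_le (h.cZJ_D.trans hD) (iSup_le ?_))
  rintro ⟨⟨L', V'⟩, hb⟩
  obtain ⟨i, -, hc⟩ := h.uni L' V' hb
  have h1 : L' ≤ YY z i := fun x hx => mem_YY.2 fun l hl =>
    hc _ (h.z_ZJ l) (h.bg.fr.WjC i l (Ne.symm hl) (h.z_W l)) x hx
  exact h1.trans ((hgen i).trans (sup_le hD (hL i)))

/-- **The frame of STAR** -/
theorem fr (h3 : 3 ≤ k) (hML : MLK.{u, u}) (hK : ∀ j, IsKGroup (YY z j)) (hE : NLoc (KZ B ZJ))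
    (hp : ∀ i, ∃ f ∈ DD z, f ∈ normalizer (W i : Set G) ∧ f ∉ normalizer (Z i : Set G)) :
    Fr (o2 (DD z)) (DD z) (ZT z) (YY z) (NN z) (LL z Z) where
  OD := Cfsg.Agent.ZN.o2_le _
  DO := le_normalizer_o2 _
  OZ := by
    refine (Cfsg.Agent.ZN.o2_le _).trans (le_centralizer_iff.1 ?_)
    unfold ZT
    rw [closure_le]
    rintro _ ⟨l, rfl⟩
    exact mem_centralizer_iff.2 fun x hx => mem_DD.1 hx l
  DY _ := DD_le_CT
  LY _ := inf_le_left
  YDL i := h.gen (hp i)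
  eab i := eab_iff.2 ⟨h.NN_ab i, fun _ hx => h.NN_sq i hx⟩
  NQ i j := le_inf (h.NN_O i) (h.NN_comm h3 i j)
  YN i := NN_norm i
  YQ i := h.YQ i
  no i := h.no hML (hK i)
  nl U hU hD hL := h.nonloc hE (fun i => h.gen (hp i)) ((o2_isPGroup _).to_le hU) hD hL
  Eeab i j _ := eab_mono (Cfsg.Agent.ZN.isElementaryAbelian_zc _) (h.EE_zc h3 i j)
  EO i j _ := (h.EE_zc h3 i j).trans ((zc_le _).trans (h.o2_CT_le_D _))
  NE i := h.NN_EE i

end FrK

end Cfsg.Agent.Omega.EK3.FK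

end
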