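import Cfsg.Agent.Mrg.Omega.OM.FourF.Three


/-!
# (4F-K): `O` centralises `W` (K1, helper764 #24656, referee helper343 #24780)

`W = K × K`, `|K| = 4`, `u = (1, 0)`; `O` acts on `W` by the maps `Lin l : (x + l y, y)` and `Sem l : (x² + l y², y²)`; `Y`
contains `SL₂(K)`, the stabiliser of `u` in `N_Y(W)` normalises `O`; some `f` in it moves `Z = {(x, 0)}`.

* `Inp` : this situation;  **`Inp.le_cent`** : `O ≤ C(W)`.

The form `bt p q = tr (det (p, q))` is preserved by `N_Y(W)` if `O` acts as `{1, Lin 1, Sem 0, Sem 1}`.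
-/

set_option autoImplicit false

namespace Cfsg.Agent.Omega.EK3.FK.KOne

open Subgroup Cfsg Cfsg.Agent.ZN.ChoiceBase
open Cfsg.Agent.Omega.OM.FourF (Act Co conjW two0 root exists_om cases4 pow4)

variable {G K : Type*} [Group G] [Field K]

/-- `g` acts as `(x + l y, y)` -/
def ALin (W : Subgroup G) (e : G → K × K) (l : K) (g : G) : Prop := Act W e g fun p => (p.1 + l * p.2, p.2)

/-- `g` acts as `(x² + l y², y²)` -/
def ASem (W : Subgroup G) (e : G → K × K) (l : K) (g : G) : Prop :=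
  Act W e g fun p => (p.1 * p.1 + l * (p.2 * p.2), p.2 * p.2)

/-- The situation -/
structure Inp (Y O W Z : Subgroup G) (u : G) (e : G → K × K) : Prop where
  card : Nat.card K = 4
  co : Co W Z u e
  OW : O ≤ normalizer (W : Set G)
  act : ∀ o ∈ O, ∃ l : K, ALin W e l o ∨ ASem W e l o
  full : ∀ l : K, ∃ b ∈ normalizer (O : Set G), b ∈ normalizer (W : Set G) ∧ ALin W e l b
  sl : ∀ a b c d : K, a * d - b * c = 1 → ∃ g ∈ Y, g ∈ normalizer (W : Set G) ∧
    Act W e g fun p => (a * p.1 + b * p.2, c * p.1 + d * p.2)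
  nor : ∀ x ∈ Y, x ∈ normalizer (W : Set G) → x * u = u * x → x ∈ normalizer (O : Set G)

/-- `tr (det (p, q))` -/
def bt (p q : K × K) : K := (p.1 * q.2 + p.2 * q.1) + (p.1 * q.2 + p.2 * q.1) * (p.1 * q.2 + p.2 * q.1)

section rules

variable [CharP K 2] {W Z : Subgroup G} {u : G} {e : G → K × K} (co : Co W Z u e)

omit [CharP K 2] in
theorem ALin.mul {l m : K} {g k : G} (hk : k ∈ normalizer (W : Set G)) (h1 : ALin W e l g) (h2 : ALin W e m k) :
    ALin W e (l + m) (g * k) := by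
  intro w hw
  have e1 : g * k * w * (g * k)⁻¹ = g * (k * w * k⁻¹) * g⁻¹ := by group
  rw [e1, h1 _ (conjW hk hw), h2 w hw]
  ext
  · simp only; ring
  · rfl

/-- `Sem l Sem m = Lin (m² + l)` -/
theorem ASem.mul (hK : Nat.card K = 4) {l m : K} {g k : G} (hk : k ∈ normalizer (W : Set G)) (h1 : ASem W e l g)
    (h2 : ASem W e m k) : ALin W e (m * m + l) (g * k) := by
  intro w hw
  have e1 : g * k * w * (g * k)⁻¹ = g * (k * w * k⁻¹) * g⁻¹ := by group
  rw [e1, h1 _ (conjW hk hw), h2 w hw]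
  have hx := pow4 hK (e w).1
  have hy := pow4 hK (e w).2
  have h2 := two0 (K := K)
  ext
  · simp only
    linear_combination hx + (m * m + l) * hy + ((e w).1 * (e w).1 * m * ((e w).2 * (e w).2)) * h2
  · exact hy

/-- `Lin m Sem l Lin m = Sem (l + m² + m)` -/
theorem ASem.conj {l m : K} {g b : G} (hb : b ∈ normalizer (W : Set G)) (hg : g ∈ normalizer (W : Set G))
    (h1 : ASem W e l g) (h2 : ALin W e m b) (h3 : ALin W e m b⁻¹) : ASem W e (l + m * m + m) (b * g * b⁻¹) := by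
  intro w hw
  have e1 : b * g * b⁻¹ * w * (b * g * b⁻¹)⁻¹ = b * (g * (b⁻¹ * w * b⁻¹⁻¹) * g⁻¹) * b⁻¹ := by group
  have hw1 := conjW (inv_mem hb) hw
  rw [e1, h2 _ (conjW hg hw1), h1 _ hw1, h3 w hw]
  have h2 := two0 (K := K)
  ext
  · simp only
    linear_combination ((e w).1 * m * (e w).2) * h2
  · rfl

include co in
theorem ALin.inv {m : K} {b : G} (hb : b ∈ normalizer (W : Set G)) (h1 : ALin W e m b) : ALin W e m b⁻¹ := by
  intro w hw
  have h2 := h1 _ (conjW (inv_mem hb) hw)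
  have e1 : b * (b⁻¹ * w * b⁻¹⁻¹) * b⁻¹ = w := by group
  rw [e1] at h2
  have h3 := congrArg Prod.fst h2
  have h4 := congrArg Prod.snd h2
  simp only at h3 h4
  have h5 := two0 (K := K)
  ext
  · simp only
    rw [h3, h4]
    linear_combination (-m * (e (b⁻¹ * w * b⁻¹⁻¹)).2) * h5
  · exact h4.symm

include co in
/-- an element acting trivially centralises `W` -/
theorem cent_of_lin {o : G} (ho : o ∈ normalizer (W : Set G)) (h1 : ALin W e (0 : K) o) :
    o ∈ centralizer (W : Set G) := by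
  rw [mem_centralizer_iff]
  intro w hw
  refine (mul_inv_eq_iff_eq_mul.1 (co.inj (conjW ho hw) hw ?_)).symm
  rw [h1 w hw]
  ext <;> simp

include co in
theorem lin_zero_of {m : K} {o : G} (h1 : ALin W e m o) (hc : o ∈ centralizer (W : Set G)) : m = 0 := by
  obtain ⟨w, hw, he⟩ := co.surj (0, 1)
  have h2 := h1 w hw
  have h3 : o * w * o⁻¹ = w := by rw [← mem_centralizer_iff.1 hc w hw]; group
  rw [h3, he] at h2
  have := congrArg Prod.fst h2
  simpa using this.symm

include co in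
theorem not_sem {m : K} {o : G} (hK : Nat.card K = 4) (h1 : ASem W e m o) (hc : o ∈ centralizer (W : Set G)) :
    False := by
  obtain ⟨y, hy0, hy1⟩ := exists_om hK
  obtain ⟨w, hw, he⟩ := co.surj (y, 0)
  have h2 := h1 w hw
  have h3 : o * w * o⁻¹ = w := by rw [← mem_centralizer_iff.1 hc w hw]; group
  rw [h3, he] at h2
  have h4 := congrArg Prod.fst h2
  simp only [mul_zero, add_zero] at h4
  have h5 : y * (y - 1) = 0 := by linear_combination -h4
  rcases mul_eq_zero.1 h5 with h6 | h6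
  · exact hy0 h6
  · exact hy1 (sub_eq_zero.1 h6)

/-- an element of order 4 field -/
theorem cases_tr (hK : Nat.card K = 4) (l : K) : l * l + l = 0 ∨ l * l + l = 1 := by
  have h1 := pow4 hK l
  have h2 := two0 (K := K)
  have h3 : (l * l + l) * (l * l + l - 1) = 0 := by linear_combination h1 + (l * l * l) * h2
  rcases mul_eq_zero.1 h3 with h4 | h4
  · exact Or.inl h4
  · exact Or.inr (sub_eq_zero.1 h4)

end rules

namespace Inp

variable [CharP K 2] [Finite G] {Y O W Z : Subgroup G} {u : G} {e : G → K × K} (h : Inp Y O W Z u e)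
include h

/-- `f` moves `Z`: there is no `a ∈ O`, `a` and `f a f⁻¹` both of the form `Lin`, nontrivial. -/
theorem no_lin {f : G} (hfW : f ∈ normalizer (W : Set G)) (hfZ : f ∉ normalizer (Z : Set G)) {a : G} {m m' : K}
    (haW : a ∈ normalizer (W : Set G)) (hm : m ≠ 0) (h1 : ALin W e m a) (h2 : ALin W e m' (f * a * f⁻¹)) : False := by
  have hco := h.co
  have hm' : m' ≠ 0 := by
    rintro rfl
    have h3 := cent_of_lin hco (mul_mem (mul_mem hfW haW) (inv_mem hfW)) h2
    apply hm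
    refine lin_zero_of hco h1 ?_
    rw [mem_centralizer_iff] at h3 ⊢
    intro w hw
    have h4 := h3 _ (conjW hfW hw)
    have e1 : w * a = f⁻¹ * (f * w * f⁻¹ * (f * a * f⁻¹)) * f := by group
    rw [e1, h4]
    group
  apply hfZ
  rw [mem_normalizer_iff_cj]
  refine Subgroup.eq_of_le_of_card_ge ?_ (by rw [card_cj])
  rintro _ ⟨w, hw, rfl⟩
  obtain ⟨hwW, hw2⟩ := (hco.memZ w).1 hw
  have hwf := conjW hfW hwW
  refine (hco.memZ _).2 ⟨hwf, ?_⟩
  have e0 : a * w * a⁻¹ = w := by
    refine hco.inj (conjW haW hwW) hwW ?_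
    rw [h1 w hwW]
    ext
    · simp only
      rw [hw2]; ring
    · rfl
  have e1 : f * a * f⁻¹ * (f * w * f⁻¹) * (f * a * f⁻¹)⁻¹ = f * w * f⁻¹ := by
    calc f * a * f⁻¹ * (f * w * f⁻¹) * (f * a * f⁻¹)⁻¹ = f * (a * w * a⁻¹) * f⁻¹ := by group
      _ = f * w * f⁻¹ := by rw [e0]
  have h3 := h2 _ hwf
  rw [e1] at h3
  have h4 := congrArg Prod.fst h3
  simp only at h4
  have h5 : m' * (e (f * w * f⁻¹)).2 = 0 := by linear_combination -h4
  exact (mul_eq_zero.1 h5).resolve_left hm'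

/-- no element of `O` acts as `Sem l`, `l² + l = 1`. -/
theorem no_semA {f : G} (hfO : f ∈ normalizer (O : Set G)) (hfW : f ∈ normalizer (W : Set G))
    (hfZ : f ∉ normalizer (Z : Set G)) {o : G} (ho : o ∈ O) {l : K} (hl : l * l + l = 1) (h1 : ASem W e l o) :
    False := by
  have hoW := h.OW ho
  have h2 : ALin W e (l * l + l) (o * o) := ASem.mul h.card hoW h1 h1
  have ho' : f * o * f⁻¹ ∈ O := (mem_normalizer_iff.1 hfO o).1 ho
  have e1 : f * (o * o) * f⁻¹ = f * o * f⁻¹ * (f * o * f⁻¹) := by group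
  obtain ⟨l', hl' | hl'⟩ := h.act _ ho'
  · refine h.no_lin hfW hfZ (mul_mem hoW hoW) (by rw [hl]; exact one_ne_zero) h2 (m' := l' + l') ?_
    rw [e1]
    exact ALin.mul (h.OW ho') hl' hl'
  · refine h.no_lin hfW hfZ (mul_mem hoW hoW) (by rw [hl]; exact one_ne_zero) h2 (m' := l' * l' + l') ?_
    rw [e1]
    exact ASem.mul h.card (h.OW ho') hl' hl'

omit [Finite G] in
/-- `SL₂` preserves `bt` -/
theorem bt_sl {a b c d : K} (hd : a * d - b * c = 1) (p q : K × K) :
    bt (a * p.1 + b * p.2, c * p.1 + d * p.2) (a * q.1 + b * q.2, c * q.1 + d * q.2) = bt p q := by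
  have h2 := two0 (K := K)
  have e1 : (a * p.1 + b * p.2) * (c * q.1 + d * q.2) + (c * p.1 + d * p.2) * (a * q.1 + b * q.2) =
      p.1 * q.2 + p.2 * q.1 := by
    linear_combination (p.1 * q.2 + p.2 * q.1) * hd + (a * c * p.1 * q.1 + b * d * p.2 * q.2 + b * c * (p.1 * q.2 + p.2 * q.1)) * h2
  unfold bt
  simp only
  rw [e1]

omit [Finite G] in
/-- an element of `SL₂(K)` moving `u` to `w`, it preserves `bt` -/
theorem exists_sl {w : G} (hw : w ∈ W) (hw1 : w ≠ 1) : ∃ m ∈ Y, m ∈ normalizer (W : Set G) ∧ m * u * m⁻¹ = w ∧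
    ∀ v ∈ W, ∀ v' ∈ W, bt (e (m * v * m⁻¹)) (e (m * v' * m⁻¹)) = bt (e v) (e v') := by
  have hco := h.co
  have key : ∀ a b c d : K, a * d - b * c = 1 → e w = (a, c) → ∃ m ∈ Y, m ∈ normalizer (W : Set G) ∧
      m * u * m⁻¹ = w ∧ ∀ v ∈ W, ∀ v' ∈ W, bt (e (m * v * m⁻¹)) (e (m * v' * m⁻¹)) = bt (e v) (e v') := by
    intro a b c d hd he
    obtain ⟨m, hm, hmW, hA⟩ := h.sl a b c d hd
    refine ⟨m, hm, hmW, ?_, fun v hv v' hv' => ?_⟩
    · refine hco.inj (conjW hmW hco.uW) hw ?_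
      rw [hA u hco.uW, hco.eu, he]
      ext <;> simp
    · rw [hA v hv, hA v' hv']
      exact h.bt_sl hd _ _
  by_cases ha : (e w).1 = 0
  · have hc : (e w).2 ≠ 0 := by
      intro hc
      exact hw1 (hco.ker w hw (Prod.ext ha hc))
    exact key (e w).1 (-(e w).2⁻¹) (e w).2 0 (by rw [ha]; field_simp; ring) rfl
  · exact key (e w).1 0 (e w).2 (e w).1⁻¹ (by field_simp; ring) rfl

/-- **`O ≤ C(W)`** -/
theorem le_cent {f : G} (hfY : f ∈ Y) (hfW : f ∈ normalizer (W : Set G)) (hfu : f * u = u * f)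
    (hfZ : f ∉ normalizer (Z : Set G)) : O ≤ centralizer (W : Set G) := by
  have hco := h.co
  have hK := h.card
  have h2 := two0 (K := K)
  have hfO := h.nor f hfY hfW hfu
  -- no `Sem`
  have hns : ∀ o ∈ O, ∀ l : K, ¬ ASem W e l o := by
    intro o ho l hs
    -- `l ∈ F₂`
    have hl : l * l + l = 0 := (cases_tr hK l).resolve_right fun hl => h.no_semA hfO hfW hfZ ho hl hs
    -- `Sem (l + 1)`
    obtain ⟨y, hy0, hy1⟩ := exists_om hK
    have hr := root hK hy0 hy1
    obtain ⟨b, hbO, hbW, hb⟩ := h.full y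
    have ho' : b * o * b⁻¹ ∈ O := (mem_normalizer_iff.1 hbO o).1 ho
    have hs' : ASem W e (l + 1) (b * o * b⁻¹) := by
      have h3 := ASem.conj hbW (h.OW ho) hs hb (ALin.inv hco hbW hb)
      have e1 : l + y * y + y = l + 1 := by linear_combination hr + y * h2
      rwa [e1] at h3
    have hS : ∀ m : K, m * m + m = 0 → ∃ o ∈ O, ASem W e m o := by
      intro m hm
      have h3 : m = l ∨ m = l + 1 := by
        have h4 : (m - l) * (m - (l + 1)) = 0 := by linear_combination hm - hl + (l * l + l - m * l - m) * h2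
        rcases mul_eq_zero.1 h4 with h5 | h5
        · exact Or.inl (sub_eq_zero.1 h5)
        · exact Or.inr (sub_eq_zero.1 h5)
      rcases h3 with rfl | rfl
      · exact ⟨o, ho, hs⟩
      · exact ⟨_, ho', hs'⟩
    obtain ⟨s0, hs0, hs0'⟩ := hS 0 (by ring)
    obtain ⟨s1, hs1, hs1'⟩ := hS 1 (by linear_combination h2)
    have hE : ALin W e (1 : K) (s0 * s1) := by
      have h3 := ASem.mul hK (h.OW hs1) hs0' hs1'
      have e1 : (1 : K) * 1 + 0 = 1 := by ring
      rwa [e1] at h3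
    have hEO : s0 * s1 ∈ O := mul_mem hs0 hs1
    -- the vectors fixed by nontrivial elements of `O`
    have h𝒰 : ∀ v ∈ W, bt (e u) (e v) = 0 → ∃ o ∈ O, o ∉ centralizer (W : Set G) ∧ o * v * o⁻¹ = v := by
      intro v hv hb
      rw [hco.eu] at hb
      unfold bt at hb
      simp only [one_mul, zero_mul, add_zero] at hb
      have hcases : (e v).2 = 0 ∨ (e v).2 = 1 := by
        have h4 : (e v).2 * ((e v).2 - 1) = 0 := by linear_combination hb - (e v).2 * h2
        rcases mul_eq_zero.1 h4 with h5 | h5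
        · exact Or.inl h5
        · exact Or.inr (sub_eq_zero.1 h5)
      rcases hcases with hv2 | hv2
      · refine ⟨s0 * s1, hEO, fun hc => one_ne_zero (lin_zero_of hco hE hc), ?_⟩
        refine hco.inj (conjW (h.OW hEO) hv) hv ?_
        rw [hE v hv]
        ext
        · simp only
          rw [hv2]; ring
        · rfl
      · rcases cases_tr hK (e v).1 with hv1 | hv1
        · refine ⟨s0, hs0, fun hc => not_sem hco hK hs0' hc, ?_⟩
          refine hco.inj (conjW (h.OW hs0) hv) hv ?_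
          rw [hs0' v hv]
          ext
          · simp only
            linear_combination hv1 - (e v).1 * h2
          · simp only
            rw [hv2]; ring
        · refine ⟨s1, hs1, fun hc => not_sem hco hK hs1' hc, ?_⟩
          refine hco.inj (conjW (h.OW hs1) hv) hv ?_
          rw [hs1' v hv]
          ext
          · simp only
            rw [hv2]
            linear_combination hv1 + (1 - (e v).1) * h2
          · simp only
            rw [hv2]; ring
    have h𝒰' : ∀ v ∈ W, ∀ o ∈ O, o ∉ centralizer (W : Set G) → o * v * o⁻¹ = v → bt (e u) (e v) = 0 := by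
      intro v hv o ho hoc hov
      rw [hco.eu]
      unfold bt
      simp only [one_mul, zero_mul, add_zero]
      obtain ⟨m, hm | hm⟩ := h.act o ho
      · have hm0 : m ≠ 0 := by
          rintro rfl
          exact hoc (cent_of_lin hco (h.OW ho) hm)
        have h3 := hm v hv
        rw [hov] at h3
        have h4 := congrArg Prod.fst h3
        simp only at h4
        have h5 : m * (e v).2 = 0 := by linear_combination -h4
        have h6 := (mul_eq_zero.1 h5).resolve_left hm0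
        rw [h6]; ring
      · have h3 := hm v hv
        rw [hov] at h3
        have h4 := congrArg Prod.snd h3
        simp only at h4
        linear_combination -h4 + (e v).2 * h2
    -- the stabiliser of `u`
    have hX : ∀ x ∈ Y, x ∈ normalizer (W : Set G) → x * u = u * x → ∀ v ∈ W, bt (e u) (e v) = 0 →
        bt (e u) (e (x * v * x⁻¹)) = 0 := by
      intro x hx hxW hxu v hv hb
      obtain ⟨o, ho, hoc, hov⟩ := h𝒰 v hv hb
      have hxO := h.nor x hx hxW hxu
      refine h𝒰' _ (conjW hxW hv) (x * o * x⁻¹) ((mem_normalizer_iff.1 hxO o).1 ho) (fun hc => hoc ?_) ?_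
      · rw [mem_centralizer_iff] at hc ⊢
        intro w hw
        have h4 := hc _ (conjW hxW hw)
        have e1 : w * o = x⁻¹ * (x * w * x⁻¹ * (x * o * x⁻¹)) * x := by group
        rw [e1, h4]
        group
      · calc x * o * x⁻¹ * (x * v * x⁻¹) * (x * o * x⁻¹)⁻¹ = x * (o * v * o⁻¹) * x⁻¹ := by group
          _ = x * v * x⁻¹ := by rw [hov]
    -- `N_Y(W)` preserves `bt = 0`
    have hpres : ∀ g ∈ Y, g ∈ normalizer (W : Set G) → ∀ w ∈ W, ∀ w' ∈ W, bt (e w) (e w') = 0 →
        bt (e (g * w * g⁻¹)) (e (g * w' * g⁻¹)) = 0 := by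
      intro g hg hgW w hw w' hw' hb
      by_cases hw1 : w = 1
      · have e1 : g * w * g⁻¹ = 1 := by rw [hw1]; group
        rw [e1, hco.one]
        unfold bt
        simp
      have hgw1 : g * w * g⁻¹ ≠ 1 := fun e1 => hw1 (conj_eq_one_iff.1 e1)
      obtain ⟨m, hm, hmW, hmu, hmb⟩ := h.exists_sl hw hw1
      obtain ⟨m', hm', hmW', hmu', hmb'⟩ := h.exists_sl (conjW hgW hw) hgw1
      have hx : m'⁻¹ * g * m ∈ Y := mul_mem (mul_mem (inv_mem hm') hg) hm
      have hxW : m'⁻¹ * g * m ∈ normalizer (W : Set G) := mul_mem (mul_mem (inv_mem hmW') hgW) hmW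
      have hxu : m'⁻¹ * g * m * u = u * (m'⁻¹ * g * m) := by
        refine mul_inv_eq_iff_eq_mul.1 ?_
        calc m'⁻¹ * g * m * u * (m'⁻¹ * g * m)⁻¹ = m'⁻¹ * (g * (m * u * m⁻¹) * g⁻¹) * m' := by group
          _ = m'⁻¹ * (m' * u * m'⁻¹) * m' := by rw [hmu, hmu']
          _ = u := by group
      have hv : m⁻¹ * w' * m ∈ W := by
        have := conjW (inv_mem hmW) hw'
        rwa [inv_inv] at this
      have h3 : bt (e u) (e (m⁻¹ * w' * m)) = 0 := by
        rw [← hmb u hco.uW _ hv, hmu]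
        have e1 : m * (m⁻¹ * w' * m) * m⁻¹ = w' := by group
        rw [e1]
        exact hb
      have h4 := hX _ hx hxW hxu _ hv h3
      have hv' := conjW hxW hv
      rw [← hmb' u hco.uW _ hv', hmu'] at h4
      have e1 : m' * (m'⁻¹ * g * m * (m⁻¹ * w' * m) * (m'⁻¹ * g * m)⁻¹) * m'⁻¹ = g * w' * g⁻¹ := by group
      rwa [e1] at h4
    -- `f E f⁻¹` is a `Sem m`, `m ∈ F₂`
    have hfE : f * (s0 * s1) * f⁻¹ ∈ O := (mem_normalizer_iff.1 hfO _).1 hEO
    obtain ⟨m, hm | hm⟩ := h.act _ hfE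
    · exact h.no_lin hfW hfZ (h.OW hEO) one_ne_zero hE hm
    have hm0 : m * m + m = 0 := (cases_tr hK m).resolve_right fun hl => h.no_semA hfO hfW hfZ hfE hl hm
    -- a vector `w = (0, y)`
    obtain ⟨w, hw, hwe⟩ := hco.surj (0, y)
    have hwf := conjW hfW hw
    have hEw := conjW (h.OW hEO) hw
    have h5 : bt (e (f * w * f⁻¹)) (e (f * (s0 * s1 * w * (s0 * s1)⁻¹) * f⁻¹)) = 0 := by
      have e1 : f * (s0 * s1 * w * (s0 * s1)⁻¹) * f⁻¹ =
          f * (s0 * s1) * f⁻¹ * (f * w * f⁻¹) * (f * (s0 * s1) * f⁻¹)⁻¹ := by group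
      rw [e1, hm _ hwf]
      set p := e (f * w * f⁻¹) with hp
      unfold bt
      simp only
      have hp1 := pow4 hK p.1
      have hp2 := pow4 hK p.2
      -- `d = x y² + x² y + m y³`
      have hy3 : (p.2 * p.2 * p.2) * (p.2 * p.2 * p.2) = p.2 * p.2 * p.2 := by
        linear_combination (p.2 * p.2) * hp2
      have hmm : m * m = m := by linear_combination hm0 - m * h2
      linear_combination (p.2 * p.2) * hp1 + (p.1 * p.1) * hp2 + m * m * hy3 + (p.2 * p.2 * p.2) * hmm +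
        (p.1 * (p.2 * p.2) + p.1 * p.1 * p.2 + m * (p.2 * p.2 * p.2) + p.1 * p.1 * p.1 * (p.2 * p.2 * p.2) +
          m * p.1 * (p.2 * p.2 * p.2 * p.2 * p.2) + m * p.1 * p.1 * (p.2 * p.2 * p.2 * p.2)) * h2
    have h6 : bt (e w) (e (s0 * s1 * w * (s0 * s1)⁻¹)) = 0 := by
      have h7 := hpres f⁻¹ (inv_mem hfY) (inv_mem hfW) _ hwf _ (conjW hfW hEw) h5
      have e1 : f⁻¹ * (f * w * f⁻¹) * f⁻¹⁻¹ = w := by group
      have e2 : f⁻¹ * (f * (s0 * s1 * w * (s0 * s1)⁻¹) * f⁻¹) * f⁻¹⁻¹ = s0 * s1 * w * (s0 * s1)⁻¹ := by group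
      rwa [e1, e2] at h7
    rw [hE w hw, hwe] at h6
    unfold bt at h6
    simp only [zero_mul, zero_add, one_mul] at h6
    have h7 := pow4 hK y
    have h8 : (1 : K) = 0 := by linear_combination h6 - h7 - hr - y * h2
    exact one_ne_zero h8
  intro o ho
  obtain ⟨l, hl | hl⟩ := h.act o ho
  · by_cases hl0 : l = 0
    · rw [hl0] at hl
      exact cent_of_lin hco (h.OW ho) hl
    · exfalso
      have ho' : f * o * f⁻¹ ∈ O := (mem_normalizer_iff.1 hfO o).1 ho
      obtain ⟨l', hl' | hl'⟩ := h.act _ ho'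
      · exact h.no_lin hfW hfZ (h.OW ho) hl0 hl hl'
      · exact hns _ ho' _ hl'
  · exact absurd hl (hns o ho l)

end Inp

end Cfsg.Agent.Omega.EK3.FK.KOne
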